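import Cfsg.Agent.Lib.PSpAmalgam.SL3

/-!
Further finite facts about `SL₂(3)`.
-/

set_option autoImplicit false
set_option maxRecDepth 100000

namespace CfsgLib.SpSixThree.Setup

open CfsgLib.PSpAmalgam (SL3)

theorem sl_invol : ∀ u : SL3, u * u = 1 → u = 1 ∨ u = -1 := by decide +kernel

theorem sl_neg_central : ∀ u : SL3, -1 * u = u * -1 := by decide +kernel

theorem sl_to_neg : ∀ x : SL3, x ≠ 1 → x = -1 ∨ ∃ y : SL3,
    x * y * x⁻¹ * y⁻¹ = -1 ∨ x * y * x⁻¹ * y⁻¹ * (x * y * x⁻¹ * y⁻¹) = -1 := by decide +kernel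

theorem sl_four : ∃ u : SL3, u * u = -1 := by decide +kernel

theorem sl_norm : ∀ t : SL3, t * t * t = 1 → t ≠ 1 → ∀ u : SL3,
    u * t * u⁻¹ = t ∨ u * t * u⁻¹ = t * t → u = 1 ∨ u = -1 ∨ u = t ∨ u = t * t ∨ u = -t ∨
      u = -(t * t) := by decide +kernel

theorem sl_abelian_index : ∀ (u : SL3), u * u * u = 1 → u = 1 ∨ (-u) * (-u) * (-u) = -1 := by
  decide +kernel

end CfsgLib.SpSixThree.Setup
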