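import Cfsg.Agent.Lib.SpSixThree.Setup.Fix

/-!
The Sylow subgroup and the axes of `J`.
-/

set_option autoImplicit false
set_option maxRecDepth 100000
set_option linter.unusedSectionVars false

namespace CfsgLib.SpSixThree.Setup.Core

open Subgroup
open CfsgLib.PSpAmalgam (SL3)

universe u

variable {G : Type u} [Group G] [Finite G] (K : Core G)
variable {s : G} (hs : s * s = 1) (hsa : s * K.a = K.a * s) (hsi : K.img s = -1)

/-- The preimage of the image of `J`. -/
noncomputable def syl : Subgroup G :=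
  (K.πJ.range.comap K.π).map (centralizer ({K.a} : Set G)).subtype

theorem mem_syl {c : G} : c ∈ K.syl ↔ c * K.a = K.a * c ∧ K.img c ∈ K.πJ.range := by
  constructor
  · rintro ⟨x, hx, rfl⟩
    refine ⟨mem_centralizer_singleton_iff.1 x.2, ?_⟩
    change K.img (x : G) ∈ _
    rw [K.img_eq x.2]
    exact hx
  · rintro ⟨h, hi⟩
    rw [K.img_eq (K.mk_mem h)] at hi
    exact ⟨⟨c, K.mk_mem h⟩, hi, rfl⟩

theorem R_le_syl : K.R ≤ K.syl := fun r hr =>
  K.mem_syl.2 ⟨K.R_comm r hr, by rw [K.img_of_mem hr]; exact one_mem _⟩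

theorem J_le_syl : K.J ≤ K.syl := fun j hj =>
  K.mem_syl.2 ⟨K.J_le j hj, ⟨⟨j, hj⟩, K.πJ_apply ⟨j, hj⟩⟩⟩

include hs hsa hsi in
theorem card_syl : Nat.card K.syl = 81 := by
  have h3 : Nat.card K.πJ.range = 3 := by
    refine ((Nat.dvd_prime Nat.prime_three).1 K.card_range_J).resolve_left fun h => ?_
    obtain ⟨j, hj, hjR⟩ := K.exists_out hs hsa hsi
    have h5 : K.πJ ⟨j, hj⟩ ∈ (⊥ : Subgroup SL3) := card_eq_one.1 h ▸ ⟨_, rfl⟩
    exact hjR ((K.img_eq_one (K.J_le j hj)).1 (by rw [← K.πJ_apply ⟨j, hj⟩]; exact mem_bot.1 h5))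
  rw [syl, card_map_of_injective (centralizer _).subtype_injective]
  have h1 := ((K.π.comp (K.πJ.range.comap K.π).subtype).ker).card_mul_index
  rw [index_ker] at h1
  have hr : (K.π.comp (K.πJ.range.comap K.π).subtype).range = K.πJ.range := by
    rw [MonoidHom.range_comp, range_subtype, map_comap_eq_self_of_surjective K.π_surj]
  rw [hr, h3] at h1
  have hk : (K.π.comp (K.πJ.range.comap K.π).subtype).ker.map
      ((centralizer ({K.a} : Set G)).subtype.comp (K.πJ.range.comap K.π).subtype) = K.R := by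
    ext r
    constructor
    · rintro ⟨x, hx, rfl⟩
      exact (K.π_ker _).1 hx
    · intro hr
      have h := (K.π_ker ⟨r, K.mk_mem (K.R_comm r hr)⟩).2 hr
      exact ⟨⟨⟨r, K.mk_mem (K.R_comm r hr)⟩, by rw [mem_comap, h]; exact one_mem _⟩, h, rfl⟩
  have hc : Nat.card (K.π.comp (K.πJ.range.comap K.π).subtype).ker = 27 := by
    rw [← K.card_R, ← hk, card_map_of_injective
      (f := (centralizer ({K.a} : Set G)).subtype.comp (K.πJ.range.comap K.π).subtype)
      (fun u w e => Subtype.ext (Subtype.ext e))]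
  rw [hc] at h1
  omega

include hs hsa hsi in
/-- An element of `J` outside `⟨a⟩` centralizing `R ∩ J` and one more element of `R` does not exist. -/
theorem abelian_eq (B : Subgroup G) (hcard : Nat.card B = 27)
    (hab : ∀ x ∈ B, ∀ y ∈ B, x * y = y * x) (hB : B ≤ K.syl) : B = K.J := by
  by_contra hne
  obtain ⟨b, hb, hbJ⟩ : ∃ b ∈ B, b ∉ K.J := by
    by_contra h
    push Not at h
    exact hne (eq_of_le_of_card_ge h (by rw [K.card_J, hcard]))
  obtain ⟨hba, j, hj⟩ := K.mem_syl.1 (hB hb)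
  rw [K.πJ_apply] at hj
  have hr : b * (j : G)⁻¹ ∈ K.R := by
    rw [← K.img_eq_one (K.comm_mul hba (K.comm_inv (K.J_le j j.2))),
      K.img_mul hba (K.comm_inv (K.J_le j j.2)), K.img_inv (K.J_le j j.2), hj, mul_inv_cancel]
  have hD : B ⊓ K.J ≤ zpowers K.a := by
    rintro d ⟨hdB, hdJ⟩
    refine K.cent_R hs hsa hsi (K.J_le d hdJ) ?_
    have hle : K.J ⊓ K.R ≤ (K.R ⊓ centralizer ({d} : Set G)) := fun x hx =>
      ⟨hx.2, mem_centralizer_singleton_iff.2 (K.J_comm x hx.1 d hdJ)⟩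
    have hb' : b * (j : G)⁻¹ ∈ K.R ⊓ centralizer ({d} : Set G) := by
      refine ⟨hr, mem_centralizer_singleton_iff.2 ?_⟩
      have c1 : Commute b d := hab b hb d hdB
      have c2 : Commute (j : G) d := K.J_comm j j.2 d hdJ
      exact (c1.mul_left c2.inv_left).eq
    have hlt : 9 < Nat.card (K.R ⊓ centralizer ({d} : Set G) : Subgroup G) := by
      by_contra h
      have he := eq_of_le_of_card_ge hle (by rw [K.card_JR hs hsa hsi]; omega)
      rw [← he] at hb'
      have := mul_mem hb'.1 j.2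
      rw [inv_mul_cancel_right] at this
      exact hbJ this
    have hd := card_dvd_of_le (inf_le_left : K.R ⊓ centralizer ({d} : Set G) ≤ K.R)
    rw [K.card_R, show (27 : ℕ) = 3 ^ 3 by norm_num] at hd
    obtain ⟨i, hi, hc⟩ := (Nat.dvd_prime_pow Nat.prime_three).1 hd
    have hall : K.R ≤ centralizer ({d} : Set G) := by
      have he := eq_of_le_of_card_ge (inf_le_left : K.R ⊓ centralizer ({d} : Set G) ≤ K.R) (by
        rw [K.card_R, hc]
        rw [hc] at hlt
        interval_cases i <;> simp_all)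
      rw [← he]; exact inf_le_right
    exact fun r hr => (mem_centralizer_singleton_iff.1 (hall hr)).symm
  have h3 : Nat.card (B ⊓ K.J : Subgroup G) ≤ 3 := K.card_zpow ▸ card_le_of_le hD
  have h5 : K.J.relIndex K.syl = 3 := by
    have h := (K.J.subgroupOf K.syl).card_mul_index
    rw [Nat.card_congr (subgroupOfEquivOfLe K.J_le_syl).toEquiv, K.card_J,
      K.card_syl hs hsa hsi] at h
    show (K.J.subgroupOf K.syl).index = 3
    omega
  have h6 : K.J.relIndex B ≤ 3 := h5 ▸ relIndex_le_of_le_right hB (by omega)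
  have h8 := ((K.J ⊓ B).subgroupOf B).card_mul_index
  rw [Nat.card_congr (subgroupOfEquivOfLe inf_le_right).toEquiv, hcard] at h8
  change Nat.card (K.J ⊓ B : Subgroup G) * (K.J ⊓ B).relIndex B = 27 at h8
  rw [inf_relIndex_right, inf_comm] at h8
  have := Nat.mul_le_mul h3 h6
  omega

include hs hsa hsi in
/-- Elements of `C(a)` normalising the image of `J` normalise `J`. -/
theorem norm_J {c : G} (hc : c * K.a = K.a * c)
    (hi : ∀ u ∈ K.πJ.range, K.img c * u * (K.img c)⁻¹ ∈ K.πJ.range) {j : G} (hj : j ∈ K.J) :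
    c * j * c⁻¹ ∈ K.J := by
  have h := K.abelian_eq hs hsa hsi (K.J.map (MulAut.conj c).toMonoidHom)
    (by rw [card_map_of_injective (MulAut.conj c).injective, K.card_J])
    (by
      rintro _ ⟨x, hx, rfl⟩ _ ⟨y, hy, rfl⟩
      rw [← map_mul, ← map_mul, K.J_comm x hx y hy])
    (by
      rintro _ ⟨x, hx, rfl⟩
      show c * x * c⁻¹ ∈ K.syl
      have hx' := K.J_le x hx
      refine K.mem_syl.2 ⟨K.comm_mul (K.comm_mul hc hx') (K.comm_inv hc), ?_⟩
      rw [K.img_mul (K.comm_mul hc hx') (K.comm_inv hc), K.img_mul hc hx', K.img_inv hc]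
      exact hi _ ⟨⟨x, hx⟩, K.πJ_apply ⟨x, hx⟩⟩)
  rw [← h]
  exact ⟨j, hj, rfl⟩

include hs hsa hsi in
theorem R_norm_J {r : G} (hr : r ∈ K.R) {j : G} (hj : j ∈ K.J) : r * j * r⁻¹ ∈ K.J :=
  K.norm_J hs hsa hsi (K.R_comm r hr) (fun u hu => by
    rwa [K.img_of_mem hr, one_mul, inv_one, mul_one]) hj

include hs hsa hsi in
theorem s_norm_J {j : G} (hj : j ∈ K.J) : s * j * s⁻¹ ∈ K.J :=
  K.norm_J hs hsa hsi hsa (fun u hu => by
    rwa [hsi, sl_neg_central, mul_inv_cancel_right]) hj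

include hs hsa hsi in
/-- An element of `J` outside `R` commuting with the involution. -/
theorem exists_fixed : ∃ j ∈ K.J, j ∉ K.R ∧ s * j = j * s := by
  obtain ⟨j, hj, hjR⟩ := K.exists_out hs hsa hsi
  have hja := K.J_le j hj
  obtain ⟨m, hm⟩ : ∃ m, m = j⁻¹ * (s * j * s⁻¹) := ⟨_, rfl⟩
  have hmJ : m ∈ K.J := hm ▸ mul_mem (inv_mem hj) (K.s_norm_J hs hsa hsi hj)
  have hmR : m ∈ K.R := hm ▸ K.div_mem hja (K.comm_mul (K.comm_mul hsa hja) (K.comm_inv hsa)) (by
    rw [K.img_mul (K.comm_mul hsa hja) (K.comm_inv hsa), K.img_mul hsa hja, K.img_inv hsa, hsi,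
      sl_neg_central, mul_inv_cancel_right])
  have hsj : s * j * s⁻¹ = j * m := by rw [hm, mul_inv_cancel_left]
  have hsi' : s⁻¹ = s := inv_eq_of_mul_eq_one_right hs
  have hsm : s * m * s⁻¹ = m⁻¹ := by
    refine eq_inv_of_mul_eq_one_left ?_
    have h1 : s * (s * j * s⁻¹) * s⁻¹ = j := by
      rw [hsi', show s * (s * j * s) * s = (s * s) * j * (s * s) by group, hs, one_mul, mul_one]
    rw [hsj, show s * (j * m) * s⁻¹ = s * j * s⁻¹ * (s * m * s⁻¹) by group, hsj, mul_assoc,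
      mul_eq_left] at h1
    have hc : Commute m (s * m * s⁻¹) :=
      K.J_comm m hmJ _ (K.s_norm_J hs hsa hsi hmJ)
    rw [hc.eq] at h1
    exact h1
  refine ⟨j * m⁻¹, mul_mem hj (inv_mem hmJ), fun h => hjR ?_, ?_⟩
  · have := mul_mem h hmR
    rwa [inv_mul_cancel_right] at this
  · refine mul_inv_eq_iff_eq_mul.1 ?_
    rw [show s * (j * m⁻¹) * s⁻¹ = s * j * s⁻¹ * (s * m * s⁻¹)⁻¹ by group, hsj, hsm, inv_inv]
    rw [mul_assoc, show m * m = m⁻¹ from eq_inv_of_mul_eq_one_left (by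
      rw [← pow_two, ← pow_succ, K.R_cube m hmR])]

include hs hsa hsi in
/-- Every coset of `⟨a⟩` in `R` has an element inverted by the involution. -/
theorem exists_inverted {r : G} (hr : r ∈ K.R) :
    ∃ t ∈ K.R, r⁻¹ * t ∈ zpowers K.a ∧ s * t * s⁻¹ = t⁻¹ := by
  have h := K.sigma_inv hs hsa hsi hr
  obtain ⟨w, hw⟩ : ∃ w, w = r * (s * r * s⁻¹) := ⟨_, rfl⟩
  rw [← hw] at h
  have hws : s * w * s⁻¹ = w := by rw [K.a_comm_zpow h hsa, mul_inv_cancel_right]
  have hwr : r * w = w * r := K.a_comm_zpow h (K.R_comm r hr)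
  refine ⟨r * w, mul_mem hr (K.zpow_le h), by rwa [inv_mul_cancel_left], ?_⟩
  rw [show s * (r * w) * s⁻¹ = s * r * s⁻¹ * (s * w * s⁻¹) by group, hws,
    show s * r * s⁻¹ = r⁻¹ * w by rw [hw, inv_mul_cancel_left], mul_inv_rev]
  have hw3 : w * w = w⁻¹ := eq_inv_of_mul_eq_one_left (by
    rw [← pow_two, ← pow_succ, K.R_cube w (K.zpow_le h)])
  rw [mul_assoc, hw3]
  have hc : Commute r w := hwr
  exact (hc.inv_inv).eq

end CfsgLib.SpSixThree.Setup.Core
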