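import Cfsg.Agent.Lib.SpSixThree.Setup.Form

/-!
The Sylow subgroup of `G` and fusion in `J`.
-/

set_option autoImplicit false
set_option maxRecDepth 100000
set_option linter.unusedSectionVars false
set_option linter.style.haveILetI false

namespace CfsgLib.SpSixThree.Setup.Ax

open Subgroup
open CfsgLib.PSpAmalgam (SL3 V3 zV eV gV actR actS)

universe u

variable {G : Type u} [Group G] [Finite G] {K : Core G} (A : Ax K)

include A in
theorem card_cent : Nat.card (centralizer ({K.a} : Set G)) = 648 := by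
  have h := K.π.ker.card_mul_index
  have hk : K.π.ker.map (centralizer ({K.a} : Set G)).subtype = K.R := by
    ext x
    constructor
    · rintro ⟨c, hc, rfl⟩; exact (K.π_ker c).1 hc
    · intro hx; exact ⟨⟨x, K.mk_mem (K.R_comm x hx)⟩, (K.π_ker _).2 hx, rfl⟩
  have h27 : Nat.card K.π.ker = 27 :=
    (card_map_of_injective (centralizer _).subtype_injective).symm.trans (hk ▸ K.card_R)
  rw [index_ker, h27, MonoidHom.range_eq_top.2 K.π_surj, card_top,
    CfsgLib.PSpAmalgam.SL3.card_eq] at h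
  omega

include A in
theorem center_syl {x : G} (hx : x ∈ K.syl) (hc : ∀ y ∈ K.syl, y * x = x * y) :
    x ∈ zpowers K.a :=
  K.cent_R A.hs A.hsa A.hsi (K.mem_syl.1 hx).1 fun r hr => (hc r (K.R_le_syl hr)).symm

include A in
theorem not_243 : ¬ 243 ∣ Nat.card G := by
  haveI : Fact (Nat.Prime 3) := ⟨Nat.prime_three⟩
  intro hd
  have hS := K.card_syl A.hs A.hsa A.hsi
  have h1 : 3 ^ 5 ∣ Nat.card (normalizer (K.syl : Set G)) :=
    Sylow.prime_pow_dvd_card_normalizer (p := 3) (n := 4) (by simpa using hd) (H := K.syl)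
      (by rw [hS]; rfl)
  obtain ⟨P, hP⟩ := ((IsPGroup.of_card (p := 3) (n := 4)
    (show Nat.card ↥(K.syl.subgroupOf (normalizer (K.syl : Set G))) = 3 ^ 4 by
      rw [Nat.card_congr (subgroupOfEquivOfLe le_normalizer).toEquiv, hS]; rfl))).exists_le_sylow
  let P' : Subgroup G := (P : Subgroup _).map (normalizer (K.syl : Set G)).subtype
  have hPp : IsPGroup 3 P' := P.isPGroup'.map _
  have hPc : P' ≤ centralizer ({K.a} : Set G) := by
    intro g hg
    have hgN : g ∈ normalizer (K.syl : Set G) := map_subtype_le _ hg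
    have haS : K.a ∈ K.syl := K.R_le_syl K.a_mem
    have hcz : g * K.a * g⁻¹ ∈ zpowers K.a := by
      refine A.center_syl ((mem_normalizer_iff.1 hgN _).1 haS) fun y hy => ?_
      have hy' : g⁻¹ * y * g ∈ K.syl := by
        have := (mem_normalizer_iff.1 (inv_mem hgN) y).1 hy
        rwa [inv_inv] at this
      have h2 := (K.mem_syl.1 hy').1
      calc y * (g * K.a * g⁻¹) = g * (g⁻¹ * y * g * K.a) * g⁻¹ := by group
        _ = g * (K.a * (g⁻¹ * y * g)) * g⁻¹ := by rw [h2]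
        _ = g * K.a * g⁻¹ * y := by group
    refine K.mk_mem ?_
    rcases K.zpow_a hcz with e | e | e
    · rw [conj_eq_one_iff] at e; exact absurd e K.a_ne
    · exact mul_inv_eq_iff_eq_mul.1 e
    · -- an element of odd order cannot invert
      have h2 : g * g * K.a * (g * g)⁻¹ = K.a := by
        have e4 : g * (K.a * K.a) * g⁻¹ = K.a := by
          rw [show g * (K.a * K.a) * g⁻¹ = g * K.a * g⁻¹ * (g * K.a * g⁻¹) by group, e,
            show K.a * K.a * (K.a * K.a) = K.a ^ 3 * K.a by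
              rw [pow_succ, pow_two]; simp only [mul_assoc], K.a_cube, one_mul]
        rw [show g * g * K.a * (g * g)⁻¹ = g * (g * K.a * g⁻¹) * g⁻¹ by group, e, e4]
      obtain ⟨j, hj⟩ := hPp ⟨g, hg⟩
      have hj' : g ^ 3 ^ j = 1 := congrArg Subtype.val hj
      obtain ⟨l, hl⟩ : Odd (3 ^ j) := (by decide : Odd 3).pow
      rw [hl, pow_succ, pow_mul, pow_two] at hj'
      rw [eq_inv_of_mul_eq_one_right hj']
      exact ((show Commute (g * g) K.a from mul_inv_eq_iff_eq_mul.1 h2).pow_left l).inv_left.eq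
  have h5 : 3 ^ 5 ∣ Nat.card P' := by
    rw [card_map_of_injective (normalizer _).subtype_injective]
    exact P.pow_dvd_card_of_pow_dvd_card h1
  have := h5.trans (card_dvd_of_le hPc)
  rw [A.card_cent] at this
  norm_num at this

include A in
/-- The Sylow subgroup of `G`. -/
theorem exists_sylow : ∃ P : Sylow 3 G, (P : Subgroup G) = K.syl := by
  haveI : Fact (Nat.Prime 3) := ⟨Nat.prime_three⟩
  have hS := K.card_syl A.hs A.hsa A.hsi
  obtain ⟨P, hP⟩ := (IsPGroup.of_card (p := 3) (n := 4)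
    (show Nat.card K.syl = 3 ^ 4 by rw [hS]; rfl)).exists_le_sylow
  refine ⟨P, (eq_of_le_of_card_ge hP ?_).symm⟩
  obtain ⟨n, hn⟩ := IsPGroup.iff_card.1 P.isPGroup'
  rw [hS, hn]
  have hn4 : n ≤ 4 := by
    by_contra h
    exact A.not_243 ((Nat.pow_dvd_pow 3 (show 5 ≤ n by omega)).trans
      (hn ▸ (P : Subgroup G).card_subgroup_dvd_card))
  exact (Nat.pow_le_pow_right (by norm_num) hn4).trans (by norm_num)

include A in
/-- Fusion in `J` happens in its normalizer. -/
theorem fusion {x y : G} (hx : x ∈ K.J) (hy : y ∈ K.J) (h : IsConj x y) :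
    ∃ n ∈ normalizer (K.J : Set G), n * x * n⁻¹ = y := by
  haveI : Fact (Nat.Prime 3) := ⟨Nat.prime_three⟩
  obtain ⟨g, hg⟩ := isConj_iff.1 h
  let C := centralizer ({y} : Set G)
  let B : Subgroup G := K.J.map (MulAut.conj g).toMonoidHom
  have hJC : K.J ≤ C := fun j hj => mem_centralizer_singleton_iff.2 (K.J_comm j hj y hy)
  have hBC : B ≤ C := by
    rintro _ ⟨j, hj, rfl⟩
    refine mem_centralizer_singleton_iff.2 ?_
    show g * j * g⁻¹ * y = y * (g * j * g⁻¹)
    rw [← hg, show g * j * g⁻¹ * (g * x * g⁻¹) = g * (j * x) * g⁻¹ by group, K.J_comm j hj x hx]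
    group
  have hp : IsPGroup 3 K.J := IsPGroup.of_card (n := 3) (by rw [K.card_J]; rfl)
  obtain ⟨P, hP⟩ := (hp.of_equiv (subgroupOfEquivOfLe hJC).symm).exists_le_sylow
  obtain ⟨Q, hQ⟩ := ((hp.map _).of_equiv (subgroupOfEquivOfLe hBC).symm).exists_le_sylow
  obtain ⟨d, hd⟩ := MulAction.exists_smul_eq C Q P
  let B' : Subgroup G := K.J.map (MulAut.conj ((d : G) * g)).toMonoidHom
  let P' : Subgroup G := (P : Subgroup C).map C.subtype
  have hJP : K.J ≤ P' := fun j hj =>
    ⟨⟨j, hJC hj⟩, hP (mem_subgroupOf.2 hj), rfl⟩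
  have hBP : B' ≤ P' := by
    rintro _ ⟨j, hj, rfl⟩
    have h1 : (⟨g * j * g⁻¹, hBC ⟨j, hj, rfl⟩⟩ : C) ∈ (Q : Subgroup C) :=
      hQ (mem_subgroupOf.2 ⟨j, hj, rfl⟩)
    have h2 : MulAut.conj d • (⟨g * j * g⁻¹, hBC ⟨j, hj, rfl⟩⟩ : C) ∈ (P : Subgroup C) := by
      rw [← hd, Sylow.coe_subgroup_smul]
      exact Subgroup.smul_mem_pointwise_smul _ (MulAut.conj d) _ h1
    refine ⟨_, h2, ?_⟩
    simp [mul_assoc]
  obtain ⟨S, hS⟩ := (P.isPGroup'.map C.subtype).exists_le_sylow
  obtain ⟨P0, hP0⟩ := A.exists_sylow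
  obtain ⟨w, hw⟩ := MulAction.exists_smul_eq G S P0
  have hmove : ∀ B1 : Subgroup G, B1 ≤ P' → Nat.card B1 = 27 →
      (∀ u ∈ B1, ∀ t ∈ B1, u * t = t * u) → B1.map (MulAut.conj w).toMonoidHom = K.J := by
    intro B1 hB1 hc hab
    refine K.abelian_eq A.hs A.hsa A.hsi _
      (by rw [card_map_of_injective (MulAut.conj w).injective, hc])
      (by rintro _ ⟨u, hu, rfl⟩ _ ⟨t, ht, rfl⟩; rw [← map_mul, ← map_mul, hab u hu t ht]) ?_
    rintro _ ⟨u, hu, rfl⟩
    rw [← hP0, ← hw, Sylow.coe_subgroup_smul]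
    exact Subgroup.smul_mem_pointwise_smul u (MulAut.conj w) _ (hS (hB1 hu))
  have e1 := hmove K.J hJP K.card_J K.J_comm
  have e2 := hmove B' hBP (by rw [card_map_of_injective (MulAut.conj _).injective, K.card_J]) (by
    rintro _ ⟨u, hu, rfl⟩ _ ⟨t, ht, rfl⟩; rw [← map_mul, ← map_mul, K.J_comm u hu t ht])
  have e3 : B' = K.J := map_injective (MulAut.conj w).injective (e2.trans e1.symm)
  refine ⟨(d : G) * g, mem_normalizer_iff.2 fun u => ⟨fun hu => e3.le ⟨u, hu, rfl⟩, fun hu => ?_⟩,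
    ?_⟩
  · rw [← e3] at hu
    obtain ⟨t, ht, e⟩ := hu
    rwa [← (MulAut.conj ((d : G) * g)).injective e]
  · rw [show (d : G) * g * x * ((d : G) * g)⁻¹ = d * (g * x * g⁻¹) * (d : G)⁻¹ by group, hg,
      mem_centralizer_singleton_iff.1 d.2, mul_inv_cancel_right]

end CfsgLib.SpSixThree.Setup.Ax
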