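import Cfsg.Agent.Lib.SpSixThree.Setup.Form

/-!
The quaternion group and the complement `SL₂(3)` in `C(a) ∩ C(σ)`.
-/

set_option autoImplicit false
set_option maxRecDepth 100000
set_option linter.unusedSectionVars false
set_option linter.style.haveILetI false

namespace CfsgLib.SpSixThree.Setup

open Subgroup
open CfsgLib.PSpAmalgam (SL3 V3 zV eV gV actR actS)

universe u

theorem inv_fix : ∀ (x : V3) (i : Fin 3), vsum x = 0 → actS x = -(actR^[(3 - i.val) % 3] x) →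
    (i.val = 0 ∧ (x = 0 ∨ x = gV ∨ x = -gV)) ∨ (i.val ≠ 0 ∧ ∃ n : Fin 3,
      x + n.val • eV - n.val • actR^[i.val] eV = 0) := by
  unfold vsum; decide +kernel

theorem sum_zero_span : ∀ x : V3, vsum x = 0 → ∃ k l : Fin 3, x = k.val • gV + l.val • zV := by
  unfold vsum; decide +kernel

namespace Ax

variable {G : Type u} [Group G] [Finite G] {K : Core G} (A : Ax K)

/-- `C(a) ∩ C(σ)` -/
def C0 : Subgroup G := centralizer ({K.a} : Set G) ⊓ centralizer ({A.s} : Set G)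

theorem mem_C0 {c : G} : c ∈ A.C0 ↔ c * K.a = K.a * c ∧ c * A.s = A.s * c := by
  rw [C0, mem_inf, mem_centralizer_singleton_iff, mem_centralizer_singleton_iff]

/-- `π` on `C(a) ∩ C(σ)` -/
noncomputable def π0 : A.C0 →* SL3 :=
  K.π.comp (inclusion (show A.C0 ≤ centralizer ({K.a} : Set G) from inf_le_left))

theorem π0_apply (c : A.C0) : A.π0 c = K.img c := (K.img_eq c.2.1).symm

theorem π0_surj : Function.Surjective A.π0 := fun u => by
  obtain ⟨c, hc, hcs, hi⟩ := K.lift A.hs A.hsa A.hsi u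
  exact ⟨⟨c, A.mem_C0.2 ⟨hc, hcs⟩⟩, by rw [A.π0_apply]; exact hi⟩

theorem π0_ker (c : A.C0) : A.π0 c = 1 ↔ (c : G) ∈ zpowers K.a := by
  obtain ⟨hc, hcs⟩ := A.mem_C0.1 c.2
  rw [A.π0_apply, K.img_eq_one hc]
  exact ⟨fun h => K.sigma_fix A.hs A.hsa A.hsi h hcs, fun h => K.zpow_le h⟩

theorem card_ker : Nat.card A.π0.ker = 3 := by
  have h : A.π0.ker.map A.C0.subtype = zpowers K.a := by
    ext x
    constructor
    · rintro ⟨c, hc, rfl⟩; exact (A.π0_ker c).1 hc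
    · intro hx
      exact ⟨⟨x, A.mem_C0.2 ⟨K.R_comm x (K.zpow_le hx), (K.a_comm_zpow hx A.hsa).symm⟩⟩,
        (A.π0_ker _).2 hx, rfl⟩
  exact (card_map_of_injective A.C0.subtype_injective).symm.trans (h ▸ K.card_zpow)

theorem card_C0 : Nat.card A.C0 = 72 := by
  have h := A.π0.ker.card_mul_index
  rw [index_ker, A.card_ker, MonoidHom.range_eq_top.2 A.π0_surj, card_top,
    CfsgLib.PSpAmalgam.SL3.card_eq] at h
  omega

/-- the preimage of the quaternion group -/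
noncomputable def K0 : Subgroup A.C0 := CfsgLib.PSpAmalgam.SL3.quat.comap A.π0

theorem card_K0 : Nat.card A.K0 = 24 := by
  have h := (A.π0.comp A.K0.subtype).ker.card_mul_index
  have hr : (A.π0.comp A.K0.subtype).range = CfsgLib.PSpAmalgam.SL3.quat := by
    rw [MonoidHom.range_comp, range_subtype, K0, map_comap_eq_self_of_surjective A.π0_surj]
  have hk : (A.π0.comp A.K0.subtype).ker.map A.K0.subtype = A.π0.ker := by
    ext x
    constructor
    · rintro ⟨y, hy, rfl⟩; exact hy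
    · intro hx
      refine ⟨⟨x, ?_⟩, hx, rfl⟩
      show A.π0 x ∈ CfsgLib.PSpAmalgam.SL3.quat
      rw [MonoidHom.mem_ker.1 hx]; exact one_mem _
  have hq : Nat.card CfsgLib.PSpAmalgam.SL3.quat = 8 := by
    show Nat.card {u : SL3 // u ^ 4 = 1} = 8
    rw [Nat.card_eq_fintype_card]; decide +kernel
  rw [index_ker, hr, hq, ← card_map_of_injective (f := A.K0.subtype) A.K0.subtype_injective, hk,
    A.card_ker] at h
  omega

/-- The fourth roots of one form a subgroup. -/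
theorem four_mul {c d : G} (hc : c ∈ A.C0) (hd : d ∈ A.C0) (hc4 : c ^ 4 = 1) (hd4 : d ^ 4 = 1) :
    (c * d) ^ 4 = 1 := by
  haveI : Fact (Nat.Prime 2) := ⟨Nat.prime_two⟩
  obtain ⟨P⟩ := (inferInstance : Nonempty (Sylow 2 A.K0))
  have hf : (24 : ℕ).factorization 2 = 3 := by
    rw [show (24 : ℕ) = 2 ^ 3 * 3 from rfl, Nat.factorization_mul_apply_of_coprime (by norm_num),
      Nat.Prime.factorization_pow Nat.prime_two, Finsupp.single_eq_same,
      Nat.factorization_eq_zero_of_not_dvd (by norm_num)]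
  have hP : Nat.card (P : Subgroup A.K0) = 8 := by
    rw [P.card_eq_multiplicity, A.card_K0, hf]; rfl
  have ha : (⟨K.a, A.mem_C0.2 ⟨rfl, A.hsa.symm⟩⟩ : A.C0) ∈ A.K0 := by
    show A.π0 _ ∈ CfsgLib.PSpAmalgam.SL3.quat
    rw [(A.π0_ker _).2 (mem_zpowers K.a)]; exact one_mem _
  let az : A.K0 := ⟨_, ha⟩
  have hazc : ∀ x : A.K0, az * x = x * az := fun x =>
    Subtype.ext (Subtype.ext ((A.mem_C0.1 (x : A.C0).2).1).symm)
  have hn : (P : Subgroup A.K0).Normal := by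
    rw [← normalizer_eq_top_iff]
    refine eq_top_of_card_eq _ (Nat.dvd_antisymm (card_subgroup_dvd_card _) ?_)
    rw [A.card_K0]
    refine Nat.Coprime.mul_dvd_of_dvd_of_dvd (show Nat.Coprime 8 3 by norm_num)
      (hP ▸ card_dvd_of_le le_normalizer) ?_
    have hz : az ∈ normalizer ((P : Subgroup A.K0) : Set A.K0) :=
      mem_normalizer_iff.2 fun x => by rw [hazc, mul_inv_cancel_right]
    have ho : orderOf az = 3 := by
      rw [← Subgroup.orderOf_coe, ← Subgroup.orderOf_coe]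
      exact orderOf_eq_prime (hp := ⟨Nat.prime_three⟩) K.a_cube K.a_ne
    rw [← ho, ← Subgroup.orderOf_mk az hz]
    exact orderOf_dvd_natCard _
  have hmem : ∀ x (hx : x ∈ A.C0), x ^ 4 = 1 → ∀ h : (⟨x, hx⟩ : A.C0) ∈ A.K0,
      (⟨⟨x, hx⟩, h⟩ : A.K0) ∈ (P : Subgroup A.K0) := by
    intro x hx hx4 h
    have hp : IsPGroup 2 (zpowers (⟨⟨x, hx⟩, h⟩ : A.K0)) := fun y => by
      obtain ⟨i, hi⟩ := mem_zpowers_iff.1 y.2
      refine ⟨2, Subtype.ext ?_⟩
      have h4 : (⟨⟨x, hx⟩, h⟩ : A.K0) ^ 4 = 1 := Subtype.ext (Subtype.ext hx4)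
      rw [SubgroupClass.coe_pow, ← hi, ← zpow_natCast, ← zpow_mul, mul_comm, zpow_mul,
        zpow_natCast, show (2 : ℕ) ^ 2 = 4 from rfl, h4, one_zpow]
      rfl
    obtain ⟨Q, hQ⟩ := hp.exists_le_sylow
    obtain ⟨g, rfl⟩ := MulAction.exists_smul_eq A.K0 P Q
    have h1 := hQ (mem_zpowers _)
    rw [Sylow.coe_subgroup_smul, Subgroup.mem_pointwise_smul_iff_inv_smul_mem] at h1
    have h2 := hn.conj_mem _ h1 g
    simpa [mul_assoc] using h2
  have hq : ∀ x (hx : x ∈ A.C0), x ^ 4 = 1 → (⟨x, hx⟩ : A.C0) ∈ A.K0 := fun x hx hx4 => by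
    show A.π0 _ ^ 4 = 1
    rw [← map_pow, show (⟨x, hx⟩ : A.C0) ^ 4 = 1 from Subtype.ext hx4, map_one]
  have hprod := mul_mem (hmem c hc hc4 (hq c hc hc4)) (hmem d hd hd4 (hq d hd hd4))
  obtain ⟨j, hj⟩ := P.isPGroup' ⟨_, hprod⟩
  have h2 : (c * d) ^ 2 ^ j = 1 := congrArg (fun w : (P : Subgroup A.K0) => (((w : A.K0) : A.C0) : G)) hj
  have h8 : (c * d) ^ 8 = 1 := by
    have h9 := congrArg (fun w : (P : Subgroup A.K0) => (((w : A.K0) : A.C0) : G))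
      (pow_card_eq_one' (x := (⟨_, hprod⟩ : (P : Subgroup A.K0))))
    simp only [hP] at h9
    exact h9
  have hi : A.π0 ⟨c * d, mul_mem hc hd⟩ ^ 4 = 1 := by
    rw [show (⟨c * d, mul_mem hc hd⟩ : A.C0) = ⟨c, hc⟩ * ⟨d, hd⟩ from rfl, map_mul]
    exact CfsgLib.PSpAmalgam.SL3.quat_mul _ _ (hq c hc hc4) (hq d hd hd4)
  rw [← map_pow] at hi
  have h4 : (c * d) ^ 4 ∈ zpowers K.a := (A.π0_ker _).1 hi
  refine Core.eq_one_of ?_ (K.R_cube _ (K.zpow_le h4))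
  rw [← pow_add, h8]

/-- The quaternion group. -/
def T : Subgroup A.C0 where
  carrier := {c | c ^ 4 = 1}
  one_mem' := one_pow 4
  mul_mem' := fun {c d} hc hd =>
    Subtype.ext (A.four_mul c.2 d.2 (congrArg Subtype.val hc) (congrArg Subtype.val hd))
  inv_mem' := fun {c} hc => by
    show c⁻¹ ^ 4 = 1
    rw [inv_pow, show c ^ 4 = 1 from hc, inv_one]

theorem mem_T {c : A.C0} : c ∈ A.T ↔ c ^ 4 = 1 := Iff.rfl

instance T_normal : A.T.Normal := ⟨fun c hc g => by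
  show (g * c * g⁻¹) ^ 4 = 1
  rw [conj_pow, show c ^ 4 = 1 from hc, mul_one, mul_inv_cancel]⟩

theorem T_inj {c : A.C0} (hc : c ∈ A.T) (h : A.π0 c = 1) : c = 1 := by
  have h3 : c ^ 3 = 1 := Subtype.ext (K.R_cube _ (K.zpow_le ((A.π0_ker c).1 h)))
  have h4 : c ^ 4 = 1 := hc
  rwa [pow_succ, h3, one_mul] at h4

theorem z'_mem : A.v (1, 2, 2) ∈ A.C0 :=
  A.mem_C0.2 ⟨K.J_le _ (A.v_mem _), (mul_inv_eq_iff_eq_mul.1 ((A.conj_s (1, 2, 2)).trans rfl)).symm⟩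

/-- The complement. -/
def L : Subgroup A.C0 := A.T ⊔ zpowers ⟨A.v (1, 2, 2), A.z'_mem⟩

theorem π0_z' : A.π0 ⟨A.v (1, 2, 2), A.z'_mem⟩ = K.img A.e * K.img A.e := by
  rw [A.π0_apply, A.img_v, show (vsum ((1, 2, 2) : V3)).val = 2 by unfold vsum; decide +kernel,
    pow_two]

theorem img_ee_cube : (K.img A.e * K.img A.e) ^ 3 = 1 := by
  rw [pow_succ, pow_two,
    show K.img A.e * K.img A.e * (K.img A.e * K.img A.e) * (K.img A.e * K.img A.e) =
      K.img A.e * K.img A.e * K.img A.e * (K.img A.e * K.img A.e * K.img A.e) by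
      simp only [mul_assoc], A.img_e_cube, one_mul]

theorem L_inj : Function.Injective (A.π0.comp A.L.subtype) := by
  rw [injective_iff_map_eq_one]
  rintro ⟨x, hx⟩ h
  obtain ⟨t, ht, w, hw, rfl⟩ := (mem_sup_of_normal_left (s := A.T)).1 hx
  change A.π0 (t * w) = 1 at h
  rw [map_mul] at h
  obtain ⟨k, rfl⟩ := mem_zpowers_iff.1 hw
  have ht4 : A.π0 t ^ 4 = 1 := by rw [← map_pow, show t ^ 4 = 1 from ht, map_one]
  have ho : orderOf (K.img A.e * K.img A.e) = 3 := by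
    refine orderOf_eq_prime (hp := ⟨Nat.prime_three⟩) A.img_ee_cube fun h1 => A.img_e_ne ?_
    have h2 := A.img_e_cube
    rwa [h1, one_mul] at h2
  have hw1 : A.π0 (⟨A.v (1, 2, 2), A.z'_mem⟩ ^ k) = 1 := by
    have hr : A.π0 (⟨A.v (1, 2, 2), A.z'_mem⟩ ^ k) ^ 3 = 1 := by
      rw [map_zpow, A.π0_z', ← zpow_natCast, ← zpow_mul, mul_comm, zpow_mul, zpow_natCast,
        A.img_ee_cube, one_zpow]
    have e := eq_inv_of_mul_eq_one_right h
    rw [e, inv_pow, inv_eq_one] at hr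
    rw [e, inv_eq_one]
    rwa [pow_succ, hr, one_mul] at ht4
  rw [hw1, mul_one] at h
  rw [map_zpow, A.π0_z', ← orderOf_dvd_iff_zpow_eq_one, ho] at hw1
  obtain ⟨d, rfl⟩ := hw1
  refine Subtype.ext ?_
  show t * _ = 1
  rw [A.T_inj ht h, one_mul, zpow_mul, zpow_natCast,
    show (⟨A.v (1, 2, 2), A.z'_mem⟩ : A.C0) ^ 3 = 1 from Subtype.ext (K.J_cube _ (A.v_mem _)),
    one_zpow]

theorem L_surj : Function.Surjective (A.π0.comp A.L.subtype) := by
  have h1 : K.img A.e * K.img A.e ≠ 1 := fun h => A.img_e_ne (by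
    have h2 := A.img_e_cube; rwa [h, one_mul] at h2)
  have h3 := A.img_ee_cube
  intro u
  obtain ⟨w, i, hw, rfl⟩ := CfsgLib.PSpAmalgam.SL3.decomp _ h3 h1 u
  obtain ⟨c, hc⟩ := A.π0_surj w
  have hc4 : c ^ 4 ∈ A.π0.ker := by rw [MonoidHom.mem_ker, map_pow, hc, hw]
  have h12 : c ^ 12 = 1 := by
    have := K.R_cube _ (K.zpow_le ((A.π0_ker _).1 (MonoidHom.mem_ker.1 hc4)))
    rw [show (12 : ℕ) = 4 * 3 from rfl, pow_mul]
    exact Subtype.ext this
  have h9 : c ^ 9 ∈ A.T := by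
    show (c ^ 9) ^ 4 = 1
    rw [← pow_mul, show 9 * 4 = 12 * 3 from rfl, pow_mul, h12, one_pow]
  refine ⟨⟨c ^ 9 * ⟨A.v (1, 2, 2), A.z'_mem⟩ ^ i.val,
    mul_mem (mem_sup_left h9) (pow_mem (mem_sup_right (mem_zpowers _)) _)⟩, ?_⟩
  show A.π0 (c ^ 9 * (⟨A.v (1, 2, 2), A.z'_mem⟩ : A.C0) ^ i.val) = _
  rw [map_mul, map_pow, map_pow, A.π0_z', hc, show w ^ 9 = w from by
    rw [pow_succ, show 8 = 4 * 2 from rfl, pow_mul, hw, one_pow, one_mul]]

/-- `SL₂(3) → G` -/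
noncomputable def sl : SL3 →* G :=
  A.C0.subtype.comp (A.L.subtype.comp
    (MulEquiv.ofBijective _ ⟨A.L_inj, A.L_surj⟩).symm.toMonoidHom)

theorem sl_spec (x : A.C0) (hx : x ∈ A.L) : A.sl (A.π0 x) = (x : G) := by
  have h : (MulEquiv.ofBijective _ ⟨A.L_inj, A.L_surj⟩).symm (A.π0 x) = (⟨x, hx⟩ : A.L) :=
    (MulEquiv.symm_apply_eq _).2 rfl
  show (((MulEquiv.ofBijective _ ⟨A.L_inj, A.L_surj⟩).symm (A.π0 x) : A.L) : A.C0).1 = _
  rw [h]

theorem sl_inj : Function.Injective A.sl := fun p q h =>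
  (MulEquiv.ofBijective _ ⟨A.L_inj, A.L_surj⟩).symm.injective (Subtype.ext (Subtype.ext h))

theorem sl_mem (p : SL3) : A.sl p ∈ A.C0 := SetLike.coe_mem _

theorem sl_neg : A.sl (-1) = A.s := by
  have hs : (⟨A.s, A.mem_C0.2 ⟨A.hsa, rfl⟩⟩ : A.C0) ∈ A.T := Subtype.ext (by
    show A.s ^ 4 = 1
    rw [pow_succ, pow_succ, pow_succ, pow_one, A.hs, one_mul, A.hs])
  have h := A.sl_spec _ (mem_sup_left hs)
  rwa [A.π0_apply, show K.img A.s = -1 from A.hsi] at h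

theorem inv_form {x : V3} {i : Fin 3} (hs : A.s * (A.v x * A.b ^ i.val) * A.s⁻¹ = (A.v x * A.b ^ i.val)⁻¹) :
    actS x = -(actR^[(3 - i.val) % 3] x) := by
  have hb : (A.b ^ i.val)⁻¹ = A.b ^ ((3 - i.val) % 3) := by
    refine inv_eq_of_mul_eq_one_right ?_
    rw [← pow_add, pow_eq_pow_mod _ (K.R_cube _ A.b_mem)]
    have : ∀ i : Fin 3, (i.val + (3 - i.val) % 3) % 3 = 0 := by decide
    rw [this, pow_zero]
  have h1 : A.s * (A.v x * A.b ^ i.val) * A.s⁻¹ = A.v (actS x) * (A.b ^ i.val)⁻¹ := by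
    rw [show A.s * (A.v x * A.b ^ i.val) * A.s⁻¹ = (A.s * A.v x * A.s⁻¹) * (A.s * A.b * A.s⁻¹) ^ i.val by
      rw [conj_pow]; group, A.conj_s, A.s_b, inv_pow]
  have h2 : (A.v x * A.b ^ i.val)⁻¹ = A.v (-(actR^[(3 - i.val) % 3] x)) * (A.b ^ i.val)⁻¹ := by
    have e : A.b ^ ((3 - i.val) % 3) * A.v x * (A.b ^ ((3 - i.val) % 3))⁻¹ =
        A.v (actR^[(3 - i.val) % 3] x) := by
      generalize (3 - i.val) % 3 = n
      induction n with
      | zero => simp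
      | succ n ih =>
        rw [Function.iterate_succ_apply', ← A.conj_b, ← ih, pow_succ']
        group
    rw [A.v_neg, ← e, ← hb]; group
  rw [h1, h2] at hs
  exact A.v_inj (mul_right_cancel hs)

/-- The element `q`. -/
theorem exists_q : ∃ q : G, q * q = A.s ∧ q * K.a = K.a * q ∧ q * A.v gV * q⁻¹ = A.b ∧
    q * A.b * q⁻¹ = (A.v gV)⁻¹ ∧ ∃ p, A.sl p = q := by
  obtain ⟨u, hu⟩ := sl_four
  obtain ⟨p, hp⟩ : ∃ p, p = A.sl u := ⟨_, rfl⟩
  have hpp : p * p = A.s := by rw [hp, ← map_mul, hu, A.sl_neg]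
  obtain ⟨hpa, hps⟩ := A.mem_C0.1 (hp ▸ A.sl_mem u)
  have hsgV : A.s * A.v gV * A.s⁻¹ = (A.v gV)⁻¹ := by
    rw [A.conj_s, ← A.v_neg]; exact congrArg A.v (by decide +kernel)
  have hgR : A.v gV ∈ K.R := (A.v_mem_R _).2 (by unfold vsum; decide +kernel)
  have hw : p * A.v gV * p⁻¹ ∈ K.R := K.R_norm p hpa _ hgR
  obtain ⟨x, i, hx0, hx⟩ := A.R_form _ hw
  have hsw : A.s * (p * A.v gV * p⁻¹) * A.s⁻¹ = (p * A.v gV * p⁻¹)⁻¹ := by
    rw [show A.s * (p * A.v gV * p⁻¹) * A.s⁻¹ = A.s * p * A.v gV * (A.s * p)⁻¹ by group, ← hps,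
      show p * A.s * A.v gV * (p * A.s)⁻¹ = p * (A.s * A.v gV * A.s⁻¹) * p⁻¹ by group, hsgV,
      conj_inv]
  rw [hx] at hsw
  rcases inv_fix x i hx0 (A.inv_form hsw) with ⟨hi, hcase⟩ | ⟨hi, n, hn⟩
  · exfalso
    rw [hi, pow_zero, mul_one] at hx
    have h2 : A.s * A.v gV * A.s⁻¹ = A.v gV := by
      rw [← hpp, show p * p * A.v gV * (p * p)⁻¹ = p * (p * A.v gV * p⁻¹) * p⁻¹ by group]
      rcases hcase with e | e | e <;> rw [e] at hx
      · rw [A.v_zero, mul_inv_eq_iff_eq_mul, one_mul, mul_eq_left] at hx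
        exact absurd hx A.gV_ne
      · rw [hx, hx]
      · rw [A.v_neg] at hx
        rw [hx, ← conj_inv, hx, inv_inv]
    rw [hsgV] at h2
    exact A.gV_ne (Core.eq_one_of (by
      conv_lhs => arg 1; rw [← h2]
      exact inv_mul_cancel _) (K.J_cube _ (A.v_mem _)))
  obtain ⟨w, hw'⟩ : ∃ w, w = A.v (n.val • eV) := ⟨_, rfl⟩
  have hwJ : w ∈ K.J := hw' ▸ A.v_mem _
  have hws : w * A.s = A.s * w := by
    have h1 := A.conj_s (n.val • eV)
    rw [show actS (n.val • eV) = n.val • eV from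
      (by decide +kernel : ∀ n : Fin 3, actS (n.val • eV) = n.val • eV) n, ← hw'] at h1
    exact (mul_inv_eq_iff_eq_mul.1 h1).symm
  obtain ⟨r, hr⟩ : ∃ r, r = w * p * w⁻¹ := ⟨_, rfl⟩
  have hr2 : r * r = A.s := by
    rw [hr, show w * p * w⁻¹ * (w * p * w⁻¹) = w * (p * p) * w⁻¹ by group, hpp, hws,
      mul_inv_cancel_right]
  have hra : r * K.a = K.a * r :=
    hr ▸ K.comm_mul (K.comm_mul (K.J_le _ hwJ) hpa) (K.comm_inv (K.J_le _ hwJ))
  have hrg : r * A.v gV * r⁻¹ = A.b ^ i.val := by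
    have e1 : w⁻¹ * A.v gV * w = A.v gV := by
      rw [mul_assoc, K.J_comm _ (A.v_mem gV) _ hwJ, inv_mul_cancel_left]
    rw [hr, show w * p * w⁻¹ * A.v gV * (w * p * w⁻¹)⁻¹ = w * (p * (w⁻¹ * A.v gV * w) * p⁻¹) * w⁻¹ by
      group, e1, hx, ← mul_assoc, hw', ← A.v_add]
    have e2 : A.b ^ i.val * (A.v (n.val • eV))⁻¹ * (A.b ^ i.val)⁻¹ =
        A.v (-(n.val • actR^[i.val] eV)) := by
      have hR : ∀ m (y : V3), A.b ^ m * A.v y * (A.b ^ m)⁻¹ = A.v (actR^[m] y) := by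
        intro m y
        induction m with
        | zero => simp
        | succ m ih =>
          rw [Function.iterate_succ_apply', ← A.conj_b, ← ih, pow_succ']
          group
      rw [← A.v_neg, hR]
      congr 1
      exact (by decide +kernel : ∀ n i : Fin 3,
        actR^[i.val] (-(n.val • eV)) = -(n.val • actR^[i.val] eV)) n i
    calc A.v (n.val • eV + x) * A.b ^ i.val * (A.v (n.val • eV))⁻¹
        = A.v (n.val • eV + x) * (A.b ^ i.val * (A.v (n.val • eV))⁻¹ * (A.b ^ i.val)⁻¹) *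
            A.b ^ i.val := by group
      _ = A.b ^ i.val := by
        rw [e2, ← A.v_add, show n.val • eV + x + -(n.val • actR^[i.val] eV) = 0 by
          rw [← hn]; abel, A.v_zero, one_mul]
  have hrmem : ∃ p', A.sl p' = r := by
    have h4 : r ^ 4 = 1 := by
      rw [pow_succ, pow_succ, pow_succ, pow_one, mul_assoc, hr2, A.hs]
    have hrs : r * A.s = A.s * r := by rw [← hr2, mul_assoc]
    exact ⟨_, A.sl_spec ⟨r, A.mem_C0.2 ⟨hra, hrs⟩⟩ (mem_sup_left (Subtype.ext h4))⟩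
  have fin : ∀ q : G, q * q = A.s → q * K.a = K.a * q → q * A.v gV * q⁻¹ = A.b →
      (∃ p, A.sl p = q) → q * q = A.s ∧ q * K.a = K.a * q ∧ q * A.v gV * q⁻¹ = A.b ∧
      q * A.b * q⁻¹ = (A.v gV)⁻¹ ∧ ∃ p, A.sl p = q := fun q h1 h2 h3 h4 =>
    ⟨h1, h2, h3, by
      rw [← h3, show q * (q * A.v gV * q⁻¹) * q⁻¹ = q * q * A.v gV * (q * q)⁻¹ by group, h1, hsgV],
      h4⟩
  rcases (show i.val = 1 ∨ i.val = 2 by have := i.2; omega) with e | e <;> rw [e] at hrg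
  · rw [pow_one] at hrg
    exact ⟨r, fin r hr2 hra hrg hrmem⟩
  · refine ⟨r * A.s, fin _ ?_ (K.comm_mul hra A.hsa) ?_ ?_⟩
    · rw [← hr2, show r * (r * r) * (r * (r * r)) = r * r * (r * r) * (r * r) by group, hr2, A.hs,
        one_mul]
    · rw [show r * A.s * A.v gV * (r * A.s)⁻¹ = r * (A.s * A.v gV * A.s⁻¹) * r⁻¹ by group, hsgV,
        ← conj_inv, hrg]
      exact inv_eq_of_mul_eq_one_right (by rw [← pow_succ, K.R_cube _ A.b_mem])
    · obtain ⟨p', hp'⟩ := hrmem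
      exact ⟨p' * -1, by rw [map_mul, hp', A.sl_neg]⟩

theorem q_e_cube {q : G} (hqq : q * q = A.s) (hqa : q * K.a = K.a * q)
    (hqg : q * A.v gV * q⁻¹ = A.b) (hqb : q * A.b * q⁻¹ = (A.v gV)⁻¹) :
    q * A.e⁻¹ * (q * A.e⁻¹) * (q * A.e⁻¹) = 1 := by
  obtain ⟨y, hy⟩ : ∃ y, y = q * A.e⁻¹ := ⟨_, rfl⟩
  rw [← hy]
  obtain ⟨m, hm⟩ : ∃ m, m = A.v gV := ⟨_, rfl⟩
  rw [← hm] at hqg hqb
  have hmJ : m ∈ K.J := hm ▸ A.v_mem _
  have hya : y * K.a = K.a * y := hy ▸ K.comm_mul hqa (K.comm_inv (K.J_le _ A.e_mem))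
  have hys : y * A.s = A.s * y := by
    rw [hy]
    exact ((show Commute q A.s by rw [← hqq]; exact (Commute.refl q).mul_right (Commute.refl q)).mul_left
      (show Commute A.e A.s from A.s_e.symm).inv_left).eq
  have e1 : y * m * y⁻¹ = A.b := by
    rw [hy, show q * A.e⁻¹ * m * (q * A.e⁻¹)⁻¹ = q * (A.e⁻¹ * (m * A.e)) * q⁻¹ by group,
      K.J_comm m hmJ _ A.e_mem, inv_mul_cancel_left, hqg]
  have e2 : y * A.b * y⁻¹ = m⁻¹ * A.b⁻¹ * K.a := by
    have h1 : A.b⁻¹ * A.e⁻¹ * A.b * A.e = m⁻¹ * K.a := by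
      rw [show A.b⁻¹ * A.e⁻¹ * A.b = A.h⁻¹ by rw [h]; group, ← A.v_h, ← A.v_neg, ← A.v_e, ← A.v_add,
        hm, ← A.v_neg, ← A.v_z, ← A.v_add]
      exact congrArg A.v (by decide +kernel)
    rw [hy, show q * A.e⁻¹ * A.b * (q * A.e⁻¹)⁻¹ =
      q * A.b * q⁻¹ * (q * (A.b⁻¹ * A.e⁻¹ * A.b * A.e) * q⁻¹) by group, h1,
      show q * (m⁻¹ * K.a) * q⁻¹ = (q * m * q⁻¹)⁻¹ * (q * K.a * q⁻¹) by group, hqg, hqb,
      hqa, mul_inv_cancel_right, mul_assoc]
  have hca : ∀ {w : G}, w * K.a = K.a * w → Commute K.a w := fun hw => hw.symm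
  have hac : K.a * K.a * K.a = 1 := by rw [← pow_two, ← pow_succ, K.a_cube]
  have hbaR := K.R_comm _ A.b_mem
  have e3 : y * (y * A.b * y⁻¹) * y⁻¹ = m := by
    rw [e2, show y * (m⁻¹ * A.b⁻¹ * K.a) * y⁻¹ =
      (y * m * y⁻¹)⁻¹ * (y * A.b * y⁻¹)⁻¹ * (y * K.a * y⁻¹) by group, e1, e2, hya,
      mul_inv_cancel_right]
    calc A.b⁻¹ * (m⁻¹ * A.b⁻¹ * K.a)⁻¹ * K.a = A.b⁻¹ * K.a⁻¹ * (A.b * (m * K.a)) := by group
      _ = A.b⁻¹ * (K.a⁻¹ * A.b) * (m * K.a) := by group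
      _ = A.b⁻¹ * (A.b * K.a⁻¹) * (m * K.a) := by rw [(hca hbaR).inv_left.eq]
      _ = K.a⁻¹ * (m * K.a) := by group
      _ = K.a⁻¹ * (K.a * m) := by rw [K.J_le m hmJ]
      _ = m := by group
  have hy3R : ∀ r ∈ K.R, y * y * y * r = r * (y * y * y) := by
    have f1 : Commute (y * y * y) m := by
      refine mul_inv_eq_iff_eq_mul.1 ?_
      rw [show y * y * y * m * (y * y * y)⁻¹ = y * (y * (y * m * y⁻¹) * y⁻¹) * y⁻¹ by group, e1, e3]
    have f2 : Commute (y * y * y) A.b := by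
      refine mul_inv_eq_iff_eq_mul.1 ?_
      rw [show y * y * y * A.b * (y * y * y)⁻¹ = y * (y * (y * A.b * y⁻¹) * y⁻¹) * y⁻¹ by group,
        e3, e1]
    have f3 : Commute (y * y * y) K.a := K.comm_mul (K.comm_mul hya hya) hya
    intro r hr
    obtain ⟨x, i, hx, rfl⟩ := A.R_form r hr
    obtain ⟨k, l, rfl⟩ := sum_zero_span x hx
    have hn : ∀ (n : ℕ) (z : V3), A.v (n • z) = A.v z ^ n := by
      intro n z
      induction n with
      | zero => rw [zero_nsmul, pow_zero, A.v_zero]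
      | succ n ih => rw [succ_nsmul, A.v_add, ih, pow_succ]
    rw [A.v_add, hn, hn, A.v_z, ← hm]
    exact (((f1.pow_right _).mul_right (f3.pow_right _)).mul_right (f2.pow_right _)).eq
  have h3a : y * y * y ∈ zpowers K.a :=
    K.cent_R A.hs A.hsa A.hsi (K.comm_mul (K.comm_mul hya hya) hya) hy3R
  -- the Sylow subgroup of `C(a) ∩ C(σ)` has exponent three
  haveI : Fact (Nat.Prime 3) := ⟨Nat.prime_three⟩
  let E : Subgroup A.C0 := K.J.subgroupOf A.C0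
  have hEp : IsPGroup 3 E := fun w => ⟨1, Subtype.ext (Subtype.ext (by
    simpa using K.J_cube _ w.2))⟩
  have hE : 9 ∣ Nat.card E := by
    let f : ZMod 3 × ZMod 3 → E := fun p => ⟨⟨A.v (p.1, p.2, p.2),
      A.mem_C0.2 ⟨K.J_le _ (A.v_mem _), (mul_inv_eq_iff_eq_mul.1 (A.conj_s (p.1, p.2, p.2))).symm⟩⟩,
      A.v_mem _⟩
    have hf : Function.Injective f := fun p q hpq => by
      have := A.v_inj (congrArg (fun w : E => ((w : A.C0) : G)) hpq)
      exact Prod.ext (congrArg (fun z : V3 => z.1) this) (congrArg (fun z : V3 => z.2.1) this)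
    have h9 := Nat.card_le_card_of_injective f hf
    rw [Nat.card_prod, Nat.card_zmod] at h9
    obtain ⟨j, hj⟩ := IsPGroup.iff_card.1 hEp
    rw [hj] at h9 ⊢
    have : 2 ≤ j := by
      by_contra hlt
      have : 3 ^ j ≤ 3 ^ 1 := Nat.pow_le_pow_right (by norm_num) (by omega)
      omega
    exact Nat.pow_dvd_pow 3 this
  have hfac : (72 : ℕ).factorization 3 = 2 := by
    rw [show (72 : ℕ) = 3 ^ 2 * 8 from rfl, Nat.factorization_mul_apply_of_coprime (by norm_num),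
      Nat.Prime.factorization_pow Nat.prime_three, Finsupp.single_eq_same,
      Nat.factorization_eq_zero_of_not_dvd (by norm_num)]
  obtain ⟨P, hP⟩ := hEp.exists_le_sylow
  have hPE : (P : Subgroup A.C0) = E := (eq_of_le_of_card_ge hP (by
    rw [P.card_eq_multiplicity, A.card_C0, hfac]
    exact Nat.le_of_dvd Nat.card_pos (by simpa using hE))).symm
  let y0 : A.C0 := ⟨y, A.mem_C0.2 ⟨hya, hys⟩⟩
  have h9y : y0 ^ 9 = 1 := Subtype.ext (by
    show y ^ 9 = 1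
    have := K.R_cube _ (K.zpow_le h3a)
    rw [show y * y * y = y ^ 3 by rw [pow_succ, pow_two], ← pow_mul] at this
    exact this)
  have hp : IsPGroup 3 (zpowers y0) := fun w => by
    obtain ⟨i, hi⟩ := mem_zpowers_iff.1 w.2
    refine ⟨2, Subtype.ext ?_⟩
    rw [SubgroupClass.coe_pow, ← hi, ← zpow_natCast, ← zpow_mul, mul_comm, zpow_mul, zpow_natCast,
      show (3 : ℕ) ^ 2 = 9 from rfl, h9y, one_zpow]
    rfl
  obtain ⟨Q, hQ⟩ := hp.exists_le_sylow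
  obtain ⟨d, rfl⟩ := MulAction.exists_smul_eq A.C0 P Q
  have h1 := hQ (mem_zpowers y0)
  rw [Sylow.coe_subgroup_smul, Subgroup.mem_pointwise_smul_iff_inv_smul_mem, hPE] at h1
  have h2 : (d⁻¹ * y0 * d) ^ 3 = 1 := Subtype.ext (K.J_cube _ (by simpa [E, mul_assoc, mem_subgroupOf] using h1))
  have h3 : y0 ^ 3 = 1 := by
    rw [show d⁻¹ * y0 * d = d⁻¹ * y0 * d⁻¹⁻¹ by rw [inv_inv], conj_pow, conj_eq_one_iff] at h2
    exact h2
  have := congrArg Subtype.val h3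
  simpa [y0, pow_succ, mul_assoc] using this

end Ax

end CfsgLib.SpSixThree.Setup
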