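import Cfsg.Agent.Lib.SpSixThree.Setup.Mono
import Cfsg.Agent.Lib.SpSixThree.Setup.Quat
import Cfsg.Agent.Lib.SpSixThree.Setup.Global

/-!
The base data of statement S3342.
-/

set_option autoImplicit false
set_option maxRecDepth 100000
set_option linter.unusedSectionVars false
set_option linter.style.haveILetI false

namespace CfsgLib.SpSixThree

open Subgroup
open CfsgLib.PSpAmalgam (SL3 V3 zV eV fV gV actR actS)
open CfsgLib.SpSixThree.Setup

universe u

namespace Setup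

theorem plane_form : ∀ x : V3, vsum x = 0 → x = 0 ∨ x = zV ∨ x = -zV ∨
    ∃ (k l : Fin 3), x = k.val • gV + l.val • zV := by unfold vsum; decide +kernel

theorem outer_line : ∀ (x : V3) (i : Fin 3), i.val ≠ 0 →
    x + actR^[i.val] x + actR^[i.val] (actR^[i.val] x) = 0 →
    ∃ n l : Fin 3, n.val • eV + x + -(n.val • actR^[i.val] eV) = l.val • zV := by decide +kernel

theorem iter_neg_e : ∀ n i : Fin 3,
    actR^[i.val] (-(n.val • eV)) = -(n.val • actR^[i.val] eV) := by decide +kernel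

theorem iter_fix : ∀ (i : Fin 3) (m : Fin 2),
    (∀ y, actR^[i.val] (actS^[m.val] y) = y) → i = 0 ∧ m = 0 := by decide +kernel

variable {G : Type u} [Group G] [Finite G] {K : Core G} (A : Ax K)

/-- The generators of `C(a)`. -/
def gens (q : G) : Set G := {A.v zV, A.v gV, A.b, q, A.v eV}

theorem gen_cent {q : G} (hqq : q * q = A.s) (hqa : q * K.a = K.a * q) (c : G)
    (hc : c * K.a = K.a * c) : c ∈ closure (gens A q) := by
  have hv : ∀ x, vsum x = 0 → A.v x ∈ closure (gens A q) := fun x hx => by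
    obtain ⟨k, l, rfl⟩ := sum_zero_span x hx
    rw [A.v_add, A.v_nsmul, A.v_nsmul]
    exact mul_mem (pow_mem (subset_closure (by simp [gens])) _)
      (pow_mem (subset_closure (by simp [gens])) _)
  have hR : ∀ r ∈ K.R, r ∈ closure (gens A q) := fun r hr => by
    obtain ⟨x, i, hx, rfl⟩ := A.R_form r hr
    exact mul_mem (hv x hx) (pow_mem (subset_closure (by simp [gens])) _)
  have hq : q ∈ closure (gens A q) := subset_closure (by simp [gens])
  have he : A.v eV ∈ closure (gens A q) := subset_closure (by simp [gens])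
  rw [A.v_e] at he
  have hea := K.J_le _ A.e_mem
  let W : Subgroup (centralizer ({K.a} : Set G)) :=
    (closure (gens A q)).subgroupOf (centralizer ({K.a} : Set G))
  have hW : ∀ u : SL3, u ∈ W.map K.π := by
    intro u
    have hq0 : K.img q ∈ W.map K.π := ⟨⟨q, K.mk_mem hqa⟩, hq, (K.img_eq _).symm⟩
    have he0 : K.img A.e ∈ W.map K.π := ⟨⟨A.e, K.mk_mem hea⟩, he, (K.img_eq _).symm⟩
    have hq4 : K.img q * K.img q = -1 := by rw [← K.img_mul hqa hqa, hqq, A.hsi]
    have h3 : K.img A.e ^ 3 = 1 := by rw [pow_succ, pow_two, A.img_e_cube]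
    obtain ⟨w, i, hw, rfl⟩ := CfsgLib.PSpAmalgam.SL3.decomp _ h3 A.img_e_ne u
    refine mul_mem ?_ (pow_mem he0 _)
    have hne : K.img q * K.img q ≠ 1 := hq4 ▸ CfsgLib.PSpAmalgam.SL3.neg_one_ne
    have hn : (-1 : SL3) ∈ W.map K.π := hq4 ▸ mul_mem hq0 hq0
    have hq44 : K.img q ^ 4 = 1 := by
      rw [pow_succ, pow_succ, pow_succ, pow_one, mul_assoc, hq4]
      exact (by decide +kernel : (-1 : SL3) * -1 = 1)
    rcases CfsgLib.PSpAmalgam.SL3.quat_orbit _ h3 A.img_e_ne _ w ⟨hq44, hw, hne⟩ with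
      e | e | ⟨j, e | e⟩
    · rw [e]; exact one_mem _
    · rw [e]; exact hn
    · rw [e]; exact mul_mem (mul_mem (pow_mem he0 _) hq0) (inv_mem (pow_mem he0 _))
    · rw [e, ← neg_one_mul]
      exact mul_mem hn (mul_mem (mul_mem (pow_mem he0 _) hq0) (inv_mem (pow_mem he0 _)))
  obtain ⟨w, hw, hwc⟩ := hW (K.img c)
  have hwa := mem_centralizer_singleton_iff.1 w.2
  have h := K.div_mem hwa hc (by rw [← hwc, K.img_eq w.2])
  have := mul_mem (show (w : G) ∈ closure (gens A q) from hw) (hR _ h)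
  rwa [mul_inv_cancel_left] at this

theorem three {g : G} (hg : orderOf g = 3) {q : G} (hqa : q * K.a = K.a * q)
    (hqg : q * A.v gV * q⁻¹ = A.b) : ∃ x, IsConj (A.v x) g := by
  haveI : Fact (Nat.Prime 3) := ⟨Nat.prime_three⟩
  obtain ⟨P, hP⟩ := (IsPGroup.of_card (p := 3) (n := 1)
    (show Nat.card (zpowers g) = 3 ^ 1 by rw [Nat.card_zpowers, hg, pow_one])).exists_le_sylow
  obtain ⟨P0, hP0⟩ := A.exists_sylow
  obtain ⟨w, hw⟩ := MulAction.exists_smul_eq G P P0
  have h1 : w * g * w⁻¹ ∈ K.syl := by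
    rw [← hP0, ← hw, Sylow.coe_subgroup_smul]
    exact Subgroup.smul_mem_pointwise_smul g (MulAut.conj w) _ (hP (mem_zpowers g))
  have hg3 : (w * g * w⁻¹) ^ 3 = 1 := by
    rw [conj_pow, ← hg, pow_orderOf_eq_one, mul_one, mul_inv_cancel]
  obtain ⟨x, i, hx⟩ := A.syl_form _ h1
  rw [hx] at hg3
  suffices hyp : ∃ y, IsConj (A.v y) (A.v x * A.b ^ i.val) by
    obtain ⟨y, hy⟩ := hyp
    exact ⟨y, hy.trans (isConj_iff.2 ⟨w⁻¹, by rw [← hx]; group⟩)⟩
  by_cases hi : i.val = 0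
  · exact ⟨x, by rw [hi, pow_zero, mul_one]⟩
  have hR : ∀ m (y : V3), A.b ^ m * A.v y * (A.b ^ m)⁻¹ = A.v (actR^[m] y) := A.conj_pow_v
  have hbi : (A.b ^ i.val) ^ 3 = 1 := by
    rw [← pow_mul, mul_comm, pow_mul, K.R_cube _ A.b_mem, one_pow]
  -- the sum of the coordinates vanishes
  have hsum : x + actR^[i.val] x + actR^[i.val] (actR^[i.val] x) = 0 := by
    refine A.v_inj ?_
    rw [A.v_add, A.v_add, A.v_zero, ← hR i.val (actR^[i.val] x), ← hR i.val x, ← hg3]
    calc A.v x * (A.b ^ i.val * A.v x * (A.b ^ i.val)⁻¹) *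
          (A.b ^ i.val * (A.b ^ i.val * A.v x * (A.b ^ i.val)⁻¹) * (A.b ^ i.val)⁻¹)
        = A.v x * A.b ^ i.val * (A.v x * A.b ^ i.val) * (A.v x * A.b ^ i.val) *
            ((A.b ^ i.val) ^ 3)⁻¹ := by group
      _ = (A.v x * A.b ^ i.val) ^ 3 := by
          rw [hbi, inv_one, mul_one, pow_succ, pow_two]
  obtain ⟨n, l, hn⟩ : ∃ n l : Fin 3,
      n.val • eV + x + -(n.val • actR^[i.val] eV) = l.val • zV := by
    exact outer_line x i hi hsum
  refine ⟨i.val • gV + l.val • zV, isConj_iff.2 ⟨(A.v (n.val • eV))⁻¹ * q, ?_⟩⟩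
  have e2 : A.b ^ i.val * (A.v (n.val • eV))⁻¹ * (A.b ^ i.val)⁻¹ =
      A.v (-(n.val • actR^[i.val] eV)) := by
    rw [← A.v_neg, hR]
    congr 1
    exact iter_neg_e n i
  have e3 : A.v (n.val • eV) * (A.v x * A.b ^ i.val) * (A.v (n.val • eV))⁻¹ =
      A.v (l.val • zV) * A.b ^ i.val := by
    rw [show A.v (n.val • eV) * (A.v x * A.b ^ i.val) * (A.v (n.val • eV))⁻¹ =
      A.v (n.val • eV) * A.v x * (A.b ^ i.val * (A.v (n.val • eV))⁻¹ * (A.b ^ i.val)⁻¹) *
        A.b ^ i.val by group, e2, ← A.v_add, ← A.v_add, hn]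
  have e4 : q * A.v (i.val • gV + l.val • zV) * q⁻¹ = A.v (l.val • zV) * A.b ^ i.val := by
    rw [A.v_add, A.v_nsmul, A.v_nsmul, A.v_z,
      show q * (A.v gV ^ i.val * K.a ^ l.val) * q⁻¹ =
        (q * A.v gV ^ i.val * q⁻¹) * (q * K.a ^ l.val * q⁻¹) by group, ← conj_pow, ← conj_pow,
      hqg, hqa, mul_inv_cancel_right]
    exact (((show Commute A.b K.a from K.R_comm _ A.b_mem).pow_left _).pow_right _).eq
  rw [show (A.v (n.val • eV))⁻¹ * q * A.v (i.val • gV + l.val • zV) *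
    ((A.v (n.val • eV))⁻¹ * q)⁻¹ = (A.v (n.val • eV))⁻¹ *
      (q * A.v (i.val • gV + l.val • zV) * q⁻¹) * A.v (n.val • eV) by group, e4, ← e3]
  group

include A in
theorem cent_J : centralizer (K.J : Set G) = K.J := by
  refine le_antisymm (fun c hc => ?_)
    (fun j hj => mem_centralizer_iff.2 fun i hi => K.J_comm i hi j hj)
  have hca : c * K.a = K.a * c := (mem_centralizer_iff.1 hc K.a A.a_mem_J).symm
  have hfix : ∀ y, c * A.v y * c⁻¹ = A.v y := fun y => by
    rw [← mem_centralizer_iff.1 hc _ (A.v_mem y), mul_inv_cancel_right]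
  obtain ⟨x, i, m, hx⟩ := A.norm_form c hca fun j hj => by
    rw [← mem_centralizer_iff.1 hc j hj, mul_inv_cancel_right]; exact hj
  have hact : ∀ y, actR^[i.val] (actS^[m.val] y) = y := fun y => A.v_inj (by
    conv_rhs => rw [← hfix y, hx]
    rw [show A.v x * A.b ^ i.val * A.s ^ m.val * A.v y * (A.v x * A.b ^ i.val * A.s ^ m.val)⁻¹ =
      A.v x * (A.b ^ i.val * (A.s ^ m.val * A.v y * (A.s ^ m.val)⁻¹) * (A.b ^ i.val)⁻¹) *
      (A.v x)⁻¹ by group, A.conj_pow_s, A.conj_pow_v, A.v_comm, mul_inv_cancel_right])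
  obtain ⟨rfl, rfl⟩ : i = 0 ∧ m = 0 := iter_fix i m hact
  rw [hx]
  simpa using A.v_mem x

end Setup

/-- P1: the base data. -/
theorem setup : StmtSetup.{u} := by
  intro G _ _ a ha C hC hR hRcard hRexp e J hJC hJcomm hJexp hJcard hJsig
  obtain ⟨K, rfl, rfl⟩ := Setup.exists_core a ha C hC hR hRcard hRexp e J hJC hJcomm hJexp hJcard
    hJsig
  obtain ⟨A0⟩ := Setup.exists_ax K
  obtain ⟨t, ht⟩ := A0.exists_mono
  obtain ⟨A, hA⟩ : ∃ A, A = A0.shift t := ⟨_, rfl⟩
  rw [← hA] at ht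
  obtain ⟨q, hqq, hqa, hqg, hqb, hqs⟩ := A.exists_q
  refine ⟨{
    v := A.v
    v_add := A.v_add
    v_inj := A.v_inj
    J := K.J
    mem_J := A.mem_J
    R := K.R
    card_R := K.card_R
    R_cube := K.R_cube
    R_comm := fun r hr => by rw [A.v_z]; exact K.R_comm r hr
    R_normal := by
      intro c hc
      rw [A.v_z] at hc
      have hca := mem_centralizer_singleton_iff.1 hc
      refine mem_normalizer_iff.2 fun r => ⟨K.R_norm c hca r, fun h => ?_⟩
      have := K.R_norm c⁻¹ (K.comm_inv hca) _ h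
      rwa [inv_inv, show c⁻¹ * (c * r * c⁻¹) * c = r by group] at this
    v_mem_R := A.v_mem_R
    β := A.b
    β_mem := A.b_mem
    β_cube := A.b_cube
    σ := A.s
    σ_sq := A.hs
    σ_β := by
      have := A.s_b
      rwa [inv_eq_of_mul_eq_one_right A.hs] at this
    conj_β := A.conj_b
    conj_σ := A.conj_s
    q := q
    q_sq := hqq
    q_a := by rw [A.v_z]; exact hqa
    q_gV := hqg
    q_β := hqb
    q_e := by rw [A.v_e]; exact A.q_e_cube hqq hqa hqg hqb
    sl := A.sl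
    sl_inj := A.sl_inj
    sl_cent := fun u => by rw [A.v_z]; exact A.mem_C0.1 (A.sl_mem u)
    sl_neg := A.sl_neg
    sl_z' := ⟨_, A.sl_spec ⟨_, A.z'_mem⟩ (mem_sup_right (mem_zpowers _))⟩
    sl_q := hqs
    card_cent_z := by rw [A.v_z]; exact A.card_cent
    card_cent_z_σ := by rw [A.v_z]; exact A.card_C0
    cent_z_gen := fun c hc => by rw [A.v_z] at hc; exact Setup.gen_cent A hqq hqa c hc
    cent_J := Setup.cent_J A
    sylow := A.not_243
    monomial := ht
    fusion := fun x y h => A.fusion (A.v_mem x) (A.v_mem y) h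
    three := fun g hg => Setup.three A hg hqa hqg
    sig := K.sig }, rfl, A.v_z⟩

end CfsgLib.SpSixThree
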