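import Cfsg.Agent.Lib.SpSixThree.Setup.Axes
import Cfsg.Agent.Lib.PSpAmalgam.Basic

/-!
The coordinates of `J`.
-/

set_option autoImplicit false
set_option maxRecDepth 100000
set_option linter.unusedSectionVars false

namespace CfsgLib.SpSixThree.Setup

open Subgroup
open CfsgLib.PSpAmalgam (SL3 V3 zV eV gV actR actS)

universe u

variable {G : Type u} [Group G] [Finite G]

theorem val_pow {x : G} (hx : x ^ 3 = 1) (p q : ZMod 3) :
    x ^ (p + q).val = x ^ p.val * x ^ q.val := by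
  rw [← pow_add, ZMod.val_add, ← pow_mod_orderOf x (p.val + q.val)]
  refine pow_eq_pow_iff_modEq.2 ?_
  exact ((Nat.mod_modEq _ 3).of_dvd (orderOf_dvd_of_pow_eq_one hx)).trans (Nat.mod_modEq _ _).symm

namespace Core

variable (K : Core G)
variable {s : G} (hs : s * s = 1) (hsa : s * K.a = K.a * s) (hsi : K.img s = -1)

include hs hsa hsi in
/-- An element of `J` commuting with an element of `R` outside `J` lies in `⟨a⟩`. -/
theorem fix_J {d b : G} (hd : d ∈ K.J) (hb : b ∈ K.R) (hbJ : b ∉ K.J) (hc : b * d = d * b) :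
    d ∈ zpowers K.a := by
  refine K.cent_R hs hsa hsi (K.J_le d hd) ?_
  have hle : K.J ⊓ K.R ≤ (K.R ⊓ centralizer ({d} : Set G)) := fun x hx =>
    ⟨hx.2, mem_centralizer_singleton_iff.2 (K.J_comm x hx.1 d hd)⟩
  have hb' : b ∈ K.R ⊓ centralizer ({d} : Set G) := ⟨hb, mem_centralizer_singleton_iff.2 hc⟩
  have hlt : 9 < Nat.card (K.R ⊓ centralizer ({d} : Set G) : Subgroup G) := by
    by_contra h
    have he := eq_of_le_of_card_ge hle (by rw [K.card_JR hs hsa hsi]; omega)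
    rw [← he] at hb'
    exact hbJ hb'.1
  have hd' := card_dvd_of_le (inf_le_left : K.R ⊓ centralizer ({d} : Set G) ≤ K.R)
  rw [K.card_R, show (27 : ℕ) = 3 ^ 3 by norm_num] at hd'
  obtain ⟨i, hi, hci⟩ := (Nat.dvd_prime_pow Nat.prime_three).1 hd'
  have hall := eq_of_le_of_card_ge (inf_le_left : K.R ⊓ centralizer ({d} : Set G) ≤ K.R) (by
    rw [K.card_R, hci]
    rw [hci] at hlt
    interval_cases i <;> simp_all)
  intro r hr
  rw [← hall] at hr
  exact (mem_centralizer_singleton_iff.1 hr.2).symm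

end Core

/-- The involution, the axis and the cycle. -/
structure Ax (K : Core G) where
  s : G
  hs : s * s = 1
  hsa : s * K.a = K.a * s
  hsi : K.img s = -1
  e : G
  e_mem : e ∈ K.J
  e_out : e ∉ K.R
  s_e : s * e = e * s
  b : G
  b_mem : b ∈ K.R
  b_out : b ∉ K.J
  s_b : s * b * s⁻¹ = b⁻¹
  prod : e * (b * e * b⁻¹) * (b⁻¹ * e * b) = K.a

theorem exists_ax (K : Core G) : Nonempty (Ax K) := by
  obtain ⟨s, hs, hsa, hsi⟩ := K.exists_sigma
  obtain ⟨j, hj, hjR, hsj⟩ := K.exists_fixed hs hsa hsi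
  obtain ⟨r, hr, hrJ⟩ : ∃ r ∈ K.R, r ∉ K.J := by
    by_contra h
    push Not at h
    have h9 := K.card_JR hs hsa hsi
    rw [inf_of_le_right (fun r hr => h r hr : K.R ≤ K.J), K.card_R] at h9
    omega
  obtain ⟨b, hb, hrb, hsb⟩ := K.exists_inverted hs hsa hsi hr
  have haJ := K.a_mem_J hs hsa hsi
  have hbJ : b ∉ K.J := fun h => hrJ (by
    have := mul_mem h (inv_mem (zpowers_le.2 haJ hrb))
    simpa [mul_assoc] using this)
  have hN : ∀ x ∈ K.R, ∀ y ∈ K.J, x * y * x⁻¹ ∈ K.J := fun x hx y hy =>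
    K.R_norm_J hs hsa hsi hx hy
  have hbi : b⁻¹ * j * b ∈ K.J := by simpa using hN _ (inv_mem hb) j hj
  have hb3 : b * b * b = 1 := by rw [← pow_two, ← pow_succ, K.R_cube b hb]
  have cJ : ∀ {x y}, x ∈ K.J → y ∈ K.J → x * y = y * x := fun hx hy => K.J_comm _ hx _ hy
  obtain ⟨g, hg⟩ : ∃ g, g = b * j * b⁻¹ := ⟨_, rfl⟩
  obtain ⟨h, hh⟩ : ∃ h, h = b⁻¹ * j * b := ⟨_, rfl⟩
  have hgJ : g ∈ K.J := hg ▸ hN b hb j hj
  have hhJ : h ∈ K.J := hh ▸ hbi
  have hbinv : b⁻¹ = b * b := inv_eq_of_mul_eq_one_right (by rw [← mul_assoc, hb3])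
  have hbh : b * h * b⁻¹ = j := by rw [hh]; group
  have hbg : b * g * b⁻¹ = h := by
    rw [hg, hh]
    calc b * (b * j * b⁻¹) * b⁻¹ = b * b * j * (b * b)⁻¹ := by group
      _ = b⁻¹ * j * b := by rw [← hbinv, inv_inv]
  obtain ⟨t, ht⟩ : ∃ t, t = j * g * h := ⟨_, rfl⟩
  have htJ : t ∈ K.J := ht ▸ mul_mem (mul_mem hj hgJ) hhJ
  have hbt : b * t = t * b := by
    refine mul_inv_eq_iff_eq_mul.1 ?_
    rw [ht, show b * (j * g * h) * b⁻¹ = b * j * b⁻¹ * (b * g * b⁻¹) * (b * h * b⁻¹) by group,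
      hbg, hbh, ← hg, cJ (mul_mem hgJ hhJ) hj, mul_assoc]
  have htA := K.fix_J hs hsa hsi htJ hb hbJ hbt
  have ht1 : t ≠ 1 := by
    intro ht1
    rw [ht] at ht1
    have hhi : h⁻¹ = j * g := (eq_inv_of_mul_eq_one_left ht1).symm
    obtain ⟨x, hx⟩ : ∃ x, x = j * g⁻¹ := ⟨_, rfl⟩
    have hxJ : x ∈ K.J := hx ▸ mul_mem hj (inv_mem hgJ)
    have hbx : b * x = x * b := by
      refine mul_inv_eq_iff_eq_mul.1 ?_
      rw [hx, show b * (j * g⁻¹) * b⁻¹ = b * j * b⁻¹ * (b * g * b⁻¹)⁻¹ by group, hbg, ← hg, hhi,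
        cJ hgJ (mul_mem hj hgJ), mul_assoc]
      congr 1
      exact (eq_inv_of_mul_eq_one_left (by rw [← pow_two, ← pow_succ, K.J_cube g hgJ]))
    have hxA := K.fix_J hs hsa hsi hxJ hb hbJ hbx
    have hsx : s * x * s⁻¹ = x⁻¹ := by
      have hsg : s * g * s⁻¹ = h := by
        rw [hg, hh, show s * (b * j * b⁻¹) * s⁻¹ = s * b * s⁻¹ * (s * j * s⁻¹) * (s * b * s⁻¹)⁻¹ by
          group, hsb, hsj, mul_inv_cancel_right, inv_inv]
      rw [hx, show s * (j * g⁻¹) * s⁻¹ = s * j * s⁻¹ * (s * g * s⁻¹)⁻¹ by group, hsg, hsj,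
        mul_inv_cancel_right, hhi, mul_inv_rev, inv_inv, ← mul_assoc, cJ hgJ (inv_mem hj)]
      congr 1
      exact (eq_inv_of_mul_eq_one_left (by rw [← pow_two, ← pow_succ, K.J_cube j hj]))
    rw [K.a_comm_zpow hxA hsa, mul_inv_cancel_right] at hsx
    have hx1 : x = 1 := Core.eq_one_of (by
      conv_lhs => arg 2; rw [hsx]
      exact mul_inv_cancel x) (K.J_cube x hxJ)
    rw [hx, mul_inv_eq_one, hg] at hx1
    exact hjR (K.zpow_le (K.fix_J hs hsa hsi hj hb hbJ (mul_inv_eq_iff_eq_mul.1 hx1.symm)))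
  rcases K.zpow_a htA with e | e | e
  · exact absurd e ht1
  · exact ⟨⟨s, hs, hsa, hsi, j, hj, hjR, hsj, b, hb, hbJ, hsb, by rw [← hg, ← hh, ← ht, e]⟩⟩
  · refine ⟨⟨s, hs, hsa, hsi, j⁻¹, inv_mem hj, fun h => hjR (inv_inv j ▸ inv_mem h),
      (show Commute s j from hsj).inv_right.eq, b, hb, hbJ, hsb, ?_⟩⟩
    rw [show b * j⁻¹ * b⁻¹ = g⁻¹ by rw [hg]; group, show b⁻¹ * j⁻¹ * b = h⁻¹ by rw [hh]; group]
    have e2 : K.a = t⁻¹ := by
      rw [e]
      exact eq_inv_of_mul_eq_one_left (by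
        rw [← mul_assoc, ← pow_two, ← pow_succ, K.a_cube])
    rw [e2, ht, mul_inv_rev, mul_inv_rev, cJ (inv_mem hhJ) (mul_mem (inv_mem hgJ) (inv_mem hj)),
      cJ (inv_mem hgJ) (inv_mem hj)]

namespace Ax

variable {K : Core G} (A : Ax K)

/-- the second axis -/
def g : G := A.b * A.e * A.b⁻¹
/-- the third axis -/
def h : G := A.b⁻¹ * A.e * A.b

theorem g_mem : A.g ∈ K.J := K.R_norm_J A.hs A.hsa A.hsi A.b_mem A.e_mem

theorem h_mem : A.h ∈ K.J := by
  have := K.R_norm_J A.hs A.hsa A.hsi (inv_mem A.b_mem) A.e_mem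
  rwa [inv_inv] at this

theorem b_cube : A.b * A.b * A.b = 1 := by rw [← pow_two, ← pow_succ, K.R_cube A.b A.b_mem]

theorem b_h : A.b * A.h * A.b⁻¹ = A.e := by rw [h]; group

theorem b_g : A.b * A.g * A.b⁻¹ = A.h := by
  rw [g, h]
  calc A.b * (A.b * A.e * A.b⁻¹) * A.b⁻¹ = A.b * A.b * A.e * (A.b * A.b)⁻¹ := by group
    _ = A.b⁻¹ * A.e * A.b := by
      rw [← inv_eq_of_mul_eq_one_right (show A.b * (A.b * A.b) = 1 by rw [← mul_assoc, A.b_cube]),
        inv_inv]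

theorem s_g : A.s * A.g * A.s⁻¹ = A.h := by
  rw [g, h, show A.s * (A.b * A.e * A.b⁻¹) * A.s⁻¹ = A.s * A.b * A.s⁻¹ * (A.s * A.e * A.s⁻¹) *
    (A.s * A.b * A.s⁻¹)⁻¹ by group, A.s_b, A.s_e, mul_inv_cancel_right, inv_inv]

theorem s_h : A.s * A.h * A.s⁻¹ = A.g := by
  rw [← A.s_g, inv_eq_of_mul_eq_one_right A.hs,
    show A.s * (A.s * A.g * A.s) * A.s = (A.s * A.s) * A.g * (A.s * A.s) by group, A.hs, one_mul,
    mul_one]

theorem prod' : A.e * A.g * A.h = K.a := A.prod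

/-- the coordinates -/
def v (x : V3) : G := A.e ^ x.1.val * A.g ^ x.2.1.val * A.h ^ x.2.2.val

theorem v_mem (x : V3) : A.v x ∈ K.J :=
  mul_mem (mul_mem (pow_mem A.e_mem _) (pow_mem A.g_mem _)) (pow_mem A.h_mem _)

theorem v_comm (x y : V3) : A.v x * A.v y = A.v y * A.v x :=
  K.J_comm _ (A.v_mem x) _ (A.v_mem y)

theorem v_add (x y : V3) : A.v (x + y) = A.v x * A.v y := by
  unfold v
  rw [Prod.fst_add, Prod.snd_add, Prod.fst_add, Prod.snd_add, val_pow (K.J_cube _ A.e_mem),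
    val_pow (K.J_cube _ A.g_mem), val_pow (K.J_cube _ A.h_mem)]
  have c : ∀ {p q}, p ∈ K.J → q ∈ K.J → p * q = q * p := fun hp hq => K.J_comm _ hp _ hq
  have key : ∀ a a' b b' c c' : G, b * a' = a' * b → c * a' = a' * c → c * b' = b' * c →
      a * a' * (b * b') * (c * c') = a * b * c * (a' * b' * c') := by
    intro a a' b b' c c' h1 h2 h3
    symm
    calc a * b * c * (a' * b' * c') = a * b * (c * a') * b' * c' := by group
      _ = a * b * (a' * c) * b' * c' := by rw [h2]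
      _ = a * (b * a') * (c * b') * c' := by group
      _ = a * (a' * b) * (b' * c) * c' := by rw [h1, h3]
      _ = _ := by group
  exact key _ _ _ _ _ _ (c (pow_mem A.g_mem _) (pow_mem A.e_mem _))
    (c (pow_mem A.h_mem _) (pow_mem A.e_mem _)) (c (pow_mem A.h_mem _) (pow_mem A.g_mem _))

theorem v_conj {w : G} {p q r : V3} (he : w * A.e * w⁻¹ = A.v p) (hg : w * A.g * w⁻¹ = A.v q)
    (hh : w * A.h * w⁻¹ = A.v r) (x : V3) :
    w * A.v x * w⁻¹ = A.v (x.1.val • p + x.2.1.val • q + x.2.2.val • r) := by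
  have hn : ∀ (n : ℕ) (y : V3), A.v (n • y) = A.v y ^ n := by
    intro n y
    induction n with
    | zero => rw [zero_nsmul, pow_zero]; simp [v]
    | succ n ih => rw [succ_nsmul, A.v_add, ih, pow_succ]
  rw [A.v_add, A.v_add, hn, hn, hn, ← he, ← hg, ← hh, conj_pow, conj_pow, conj_pow]
  simp only [v]
  group

theorem v_e : A.v eV = A.e := by simp [v, eV, ZMod.val_one]
theorem v_g : A.v (0, 1, 0) = A.g := by simp [v, ZMod.val_one]
theorem v_h : A.v (0, 0, 1) = A.h := by simp [v, ZMod.val_one]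
theorem v_z : A.v zV = K.a := by rw [← A.prod']; simp [v, zV, ZMod.val_one]

theorem conj_b (x : V3) : A.b * A.v x * A.b⁻¹ = A.v (actR x) := by
  rw [A.v_conj (w := A.b) (p := (0, 1, 0)) (q := (0, 0, 1)) (r := eV) (by rw [A.v_g]; rfl)
    (by rw [A.v_h, A.b_g]) (by rw [A.v_e, A.b_h])]
  congr 1
  simp [actR, eV, Prod.ext_iff]

theorem conj_s (x : V3) : A.s * A.v x * A.s⁻¹ = A.v (actS x) := by
  rw [A.v_conj (w := A.s) (p := eV) (q := (0, 0, 1)) (r := (0, 1, 0))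
    (by rw [A.v_e, A.s_e, mul_inv_cancel_right]) (by rw [A.v_h, A.s_g]) (by rw [A.v_g, A.s_h])]
  congr 1
  simp [actS, eV, Prod.ext_iff]

theorem fix_b {x : G} (hx : x ∈ K.J) (h : A.b * x = x * A.b) : x ∈ zpowers K.a :=
  K.fix_J A.hs A.hsa A.hsi hx A.b_mem A.b_out h

theorem v_zero : A.v 0 = 1 := by simp [v]

theorem v_neg (x : V3) : A.v (-x) = (A.v x)⁻¹ := by
  refine eq_inv_of_mul_eq_one_left ?_
  rw [← A.v_add, neg_add_cancel, A.v_zero]

theorem gV_ne : A.v gV ≠ 1 := by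
  intro h
  have e : A.g = A.h := by
    have h2 : A.v gV = A.v (0, 1, 0) * (A.v (0, 0, 1))⁻¹ := by
      rw [← A.v_neg, ← A.v_add]
      exact congrArg A.v (by decide +kernel)
    rw [h2, A.v_g, A.v_h, mul_inv_eq_one] at h
    exact h
  have hb : A.b * A.g = A.g * A.b := by
    refine mul_inv_eq_iff_eq_mul.1 ?_
    rw [A.b_g, e]
  have hg := A.fix_b A.g_mem hb
  have h2 : A.e ∈ zpowers K.a := by
    have h3 := K.a_comm_zpow hg (K.R_comm A.b A.b_mem)
    have h4 : A.e = A.g := by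
      have h5 : A.e = A.b⁻¹ * A.g * A.b := by simp [g, mul_assoc]
      rw [h5, mul_assoc, ← h3, inv_mul_cancel_left]
    rwa [h4]
  exact A.e_out (K.zpow_le h2)

theorem key_zero : ∀ x : V3, x = 0 ∨ vsum x ≠ 0 ∨ x - actS x = gV ∨ x - actS x = -gV ∨
    x = zV ∨ x = -zV := by unfold vsum; decide +kernel

theorem sum_cyc : ∀ x : V3, x + actR x + actR (actR x) = (vsum x).val • zV := by
  unfold vsum; decide +kernel

theorem v_inj : Function.Injective A.v := by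
  intro p q hpq
  obtain ⟨x, hx⟩ : ∃ x, x = p - q := ⟨_, rfl⟩
  have h1 : A.v x = 1 := by
    rw [hx, sub_eq_add_neg, A.v_add, A.v_neg, hpq, mul_inv_cancel]
  have hR : A.v (actR x) = 1 := by rw [← A.conj_b, h1]; simp
  have hRR : A.v (actR (actR x)) = 1 := by rw [← A.conj_b, hR]; simp
  have hS : A.v (actS x) = 1 := by rw [← A.conj_s, h1]; simp
  have hsum : vsum x = 0 := by
    have h2 : A.v ((vsum x).val • zV) = 1 := by
      rw [← sum_cyc, A.v_add, A.v_add, h1, hR, hRR, one_mul, one_mul]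
    by_contra hne
    have hn : (vsum x).val • zV = zV ∨ (vsum x).val • zV = -zV := by
      have : ∀ t : ZMod 3, t ≠ 0 → t.val • zV = zV ∨ t.val • zV = -zV := by decide +kernel
      exact this _ hne
    rcases hn with e | e <;> rw [e] at h2
    · rw [A.v_z] at h2; exact K.a_ne h2
    · rw [A.v_neg, inv_eq_one, A.v_z] at h2; exact K.a_ne h2
  refine sub_eq_zero.1 (hx ▸ ?_)
  rcases key_zero x with e | e | e | e | e | e
  · exact e
  · exact absurd hsum e
  · refine absurd ?_ A.gV_ne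
    rw [← e, sub_eq_add_neg, A.v_add, A.v_neg, h1, hS, inv_one, one_mul]
  · refine absurd ?_ A.gV_ne
    rw [← inv_eq_one, ← A.v_neg, ← e, sub_eq_add_neg, A.v_add, A.v_neg, h1, hS, inv_one, one_mul]
  · rw [e, A.v_z] at h1; exact absurd h1 K.a_ne
  · rw [e, A.v_neg, inv_eq_one, A.v_z] at h1; exact absurd h1 K.a_ne

theorem mem_J (y : G) : y ∈ K.J ↔ ∃ x, A.v x = y := by
  refine ⟨fun hy => ?_, fun ⟨x, hx⟩ => hx ▸ A.v_mem x⟩
  have hb : Function.Bijective (fun x : V3 => (⟨A.v x, A.v_mem x⟩ : K.J)) :=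
    (Nat.bijective_iff_injective_and_card _).2
      ⟨fun p q h => A.v_inj (congrArg Subtype.val h), by
        rw [K.card_J, Nat.card_prod, Nat.card_prod, Nat.card_zmod]⟩
  obtain ⟨x, hx⟩ := hb.2 ⟨y, hy⟩
  exact ⟨x, congrArg Subtype.val hx⟩

end Ax

end CfsgLib.SpSixThree.Setup
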