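import Cfsg.Agent.Lib.SpSixThree.Setup.Local

/-!
The action of `C(a)` on `R` is faithful and `J` is normalised by the involution.
-/

set_option autoImplicit false
set_option maxRecDepth 100000
set_option linter.unusedSectionVars false

namespace CfsgLib.SpSixThree.Setup.Core

open Subgroup
open CfsgLib.PSpAmalgam (SL3)

universe u

variable {G : Type u} [Group G] [Finite G] (K : Core G)
variable {s : G} (hs : s * s = 1) (hsa : s * K.a = K.a * s) (hsi : K.img s = -1)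

include hs hsa hsi in
/-- The involution inverts `R` modulo `⟨a⟩`. -/
theorem sigma_inv {r : G} (hr : r ∈ K.R) : r * (s * r * s⁻¹) ∈ zpowers K.a := by
  obtain ⟨y, hy⟩ : ∃ y, y = r * (s * r * s⁻¹) := ⟨_, rfl⟩
  have hsr := K.R_norm s hsa r hr
  have hyR : y ∈ K.R := hy ▸ mul_mem hr hsr
  rw [← hy]
  have hsi' : s⁻¹ = s := inv_eq_of_mul_eq_one_right hs
  have e : s * y * s⁻¹ = (s * r * s⁻¹) * r := by
    rw [hy, hsi']
    calc s * (r * (s * r * s)) * s = s * r * s * r * (s * s) := by group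
      _ = s * r * s * r := by rw [hs, mul_one]
  obtain ⟨z, hz⟩ : ∃ z, z = s * r * s⁻¹ * r * (s * r * s⁻¹)⁻¹ * r⁻¹ := ⟨_, rfl⟩
  have hzA : z ∈ zpowers K.a := hz ▸ K.R_derived _ hsr r hr
  have hc : s * r * s⁻¹ * r = z * y := by rw [hz, hy]; group
  have hzs : s * z * s⁻¹ = z := by rw [K.a_comm_zpow hzA hsa, mul_inv_cancel_right]
  have h2 : s * (s * y * s⁻¹) * s⁻¹ = y := by
    rw [hsi', show s * (s * y * s) * s = (s * s) * y * (s * s) by group, hs, one_mul, mul_one]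
  rw [e, hc, show s * (z * y) * s⁻¹ = s * z * s⁻¹ * (s * y * s⁻¹) by group, e, hc, hzs,
    ← mul_assoc, mul_eq_right] at h2
  have h1 : z = 1 := eq_one_of h2 (K.R_cube z (K.zpow_le hzA))
  rw [h1, one_mul, ← e, mul_inv_eq_iff_eq_mul] at hc
  exact K.sigma_fix hs hsa hsi hyR hc.symm

include hs hsa hsi in
/-- No element outside `R` centralizes `R` modulo `⟨a⟩`. -/
theorem faithful {c : G} (hc : c * K.a = K.a * c)
    (h : ∀ r ∈ K.R, c * r * c⁻¹ * r⁻¹ ∈ zpowers K.a) : c ∈ K.R := by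
  by_contra hcR
  let N : Subgroup G :=
    { carrier := {d | d * K.a = K.a * d ∧ ∀ r ∈ K.R, d * r * d⁻¹ * r⁻¹ ∈ zpowers K.a}
      one_mem' := ⟨by simp, fun r _ => by simp⟩
      mul_mem' := fun {d d'} ⟨hd, hd1⟩ ⟨hd', hd1'⟩ => ⟨K.comm_mul hd hd', fun r hr => by
        have h2 := mul_mem (hd1 _ (K.R_norm d' hd' r hr)) (hd1' r hr)
        rwa [show d * (d' * r * d'⁻¹) * d⁻¹ * (d' * r * d'⁻¹)⁻¹ * (d' * r * d'⁻¹ * r⁻¹) =
          d * d' * r * (d * d')⁻¹ * r⁻¹ by group] at h2⟩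
      inv_mem' := fun {d} ⟨hd, hd1⟩ => ⟨K.comm_inv hd, fun r hr => by
        have h1 := hd1 _ (by simpa using K.R_norm d⁻¹ (K.comm_inv hd) r hr : d⁻¹ * r * d ∈ K.R)
        rw [show d⁻¹ * r * d⁻¹⁻¹ * r⁻¹ = (d * (d⁻¹ * r * d) * d⁻¹ * (d⁻¹ * r * d)⁻¹)⁻¹ by group]
        exact inv_mem h1⟩ }
  have hRN : ∀ r ∈ K.R, r ∈ N := fun r hr => ⟨K.R_comm r hr, fun x hx => K.R_derived r hr x hx⟩
  have hcN : c ∈ N := ⟨hc, h⟩
  have hconj : ∀ {g d : G}, g * K.a = K.a * g → d ∈ N → g * d * g⁻¹ ∈ N := by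
    rintro g d hg ⟨hd, hd1⟩
    refine ⟨K.comm_mul (K.comm_mul hg hd) (K.comm_inv hg), fun r hr => ?_⟩
    have h1 := hd1 _ (by simpa using K.R_norm g⁻¹ (K.comm_inv hg) r hr : g⁻¹ * r * g ∈ K.R)
    have e : g * d * g⁻¹ * r * (g * d * g⁻¹)⁻¹ * r⁻¹ =
        g * (d * (g⁻¹ * r * g) * d⁻¹ * (g⁻¹ * r * g)⁻¹) * g⁻¹ := by group
    rw [e, K.a_comm_zpow h1 hg, mul_inv_cancel_right]
    exact h1
  have hneg : ∃ d ∈ N, K.img d = -1 := by
    rcases sl_to_neg (K.img c) (fun e => hcR ((K.img_eq_one hc).1 e)) with e | ⟨y, e⟩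
    · exact ⟨c, hcN, e⟩
    obtain ⟨g, hg, rfl⟩ := K.exists_img y
    have hcg : c * g * c⁻¹ * g⁻¹ ∈ N := by
      have := mul_mem hcN (hconj hg (inv_mem hcN))
      rwa [show c * (g * c⁻¹ * g⁻¹) = c * g * c⁻¹ * g⁻¹ by group] at this
    have hi : K.img (c * g * c⁻¹ * g⁻¹) = K.img c * K.img g * (K.img c)⁻¹ * (K.img g)⁻¹ := by
      rw [K.img_mul (K.comm_mul (K.comm_mul hc hg) (K.comm_inv hc)) (K.comm_inv hg),
        K.img_mul (K.comm_mul hc hg) (K.comm_inv hc), K.img_mul hc hg, K.img_inv hc, K.img_inv hg]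
    rcases e with e | e
    · exact ⟨_, hcg, hi.trans e⟩
    · refine ⟨_, mul_mem hcg hcg, ?_⟩
      rw [K.img_mul hcg.1 hcg.1, hi, e]
  obtain ⟨d, hdN, hdi⟩ := hneg
  have hsN : s ∈ N := by
    have h1 := mul_mem hdN (hRN _ (K.div_mem hdN.1 hsa (hdi.trans hsi.symm)))
    rwa [mul_inv_cancel_left] at h1
  have hall : ∀ r ∈ K.R, r ∈ zpowers K.a := by
    intro r hr
    have h1 := K.sigma_inv hs hsa hsi hr
    have h2 := hsN.2 r hr
    have h3 := K.a_comm_zpow h1 (K.R_comm r hr)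
    have h5 : r * r ∈ zpowers K.a := by
      obtain ⟨w, hw⟩ : ∃ w, w = s * r * s⁻¹ := ⟨_, rfl⟩
      rw [← hw] at h1 h3 h2
      have hwr : w * r = r * w := by
        have e := h3
        calc w * r = r⁻¹ * (r * w * r) := by group
          _ = r⁻¹ * (r * (r * w)) := by rw [e]
          _ = r * w := by group
      have h4 := mul_mem h1 (inv_mem h2)
      rwa [show r * w * (w * r⁻¹)⁻¹ = r * (w * r) * w⁻¹ by group, hwr,
        show r * (r * w) * w⁻¹ = r * r by group] at h4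
    rw [show r = r⁻¹ * (r * r) by group]
    have e2 : r⁻¹ = r * r := inv_eq_of_mul_eq_one_right (by
      rw [← mul_assoc, ← pow_two, ← pow_succ, K.R_cube r hr])
    rw [e2]
    exact mul_mem h5 h5
  have h := card_le_of_le (fun r hr => hall r hr : K.R ≤ zpowers K.a)
  rw [K.card_R, Nat.card_zpowers, orderOf_eq_prime (hp := ⟨Nat.prime_three⟩) K.a_cube K.a_ne] at h
  omega

include hs hsa hsi in
/-- Elements of `C(a)` centralizing `R` lie in `⟨a⟩`. -/
theorem cent_R {c : G} (hc : c * K.a = K.a * c) (h : ∀ r ∈ K.R, c * r = r * c) :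
    c ∈ zpowers K.a := by
  refine K.R_center c (K.faithful hs hsa hsi hc fun r hr => ?_) h
  rw [h r hr, mul_inv_cancel_right, mul_inv_cancel]
  exact one_mem _

theorem card_zpow : Nat.card (zpowers K.a) = 3 := by
  rw [Nat.card_zpowers, orderOf_eq_prime (hp := ⟨Nat.prime_three⟩) K.a_cube K.a_ne]

/-- The subgroup `C(a)` as a membership. -/
theorem J_mem_cent {j : G} (hj : j ∈ K.J) : j ∈ centralizer ({K.a} : Set G) :=
  K.mk_mem (K.J_le j hj)

/-- `π` restricted to `J`. -/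
noncomputable def πJ : K.J →* SL3 :=
  K.π.comp (inclusion fun _ hj => K.J_mem_cent hj)

theorem πJ_apply (j : K.J) : K.πJ j = K.img j := (K.img_eq _).symm

include hs hsa hsi in
theorem a_mem_J : K.a ∈ K.J := by
  by_contra hne
  haveI : Fact (Nat.Prime 3) := ⟨Nat.prime_three⟩
  -- multiplication from `J × ⟨a⟩` is injective onto an abelian group of order 81
  have hcom : ∀ (j : K.J) (x : zpowers K.a), (j : G) * x = x * j := fun j x =>
    K.a_comm_zpow x.2 (K.J_le j j.2)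
  have hmem : ∀ (p : K.J × zpowers K.a), (p.1 : G) * p.2 ∈ centralizer ({K.a} : Set G) :=
    fun p => mul_mem (K.J_mem_cent p.1.2) (zpowers_le.2 (K.mk_mem rfl) p.2.2)
  let f : K.J × zpowers K.a →* centralizer ({K.a} : Set G) :=
    MonoidHom.mk' (fun p => ⟨(p.1 : G) * p.2, hmem p⟩) fun p q => Subtype.ext (by
      show (p.1 : G) * q.1 * (p.2 * q.2) = p.1 * p.2 * (q.1 * q.2)
      calc (p.1 : G) * q.1 * (p.2 * q.2) = p.1 * (q.1 * p.2) * q.2 := by group
        _ = p.1 * (p.2 * q.1) * q.2 := by rw [hcom]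
        _ = _ := by group)
  have hinj : Function.Injective f := by
    rw [injective_iff_map_eq_one]
    rintro ⟨j, x⟩ h
    have h1 : (j : G) * x = 1 := congrArg Subtype.val h
    have hx : (x : G) = 1 := by
      by_contra hx1
      have hxJ : (x : G) ∈ K.J := by rw [eq_inv_of_mul_eq_one_right h1]; exact inv_mem j.2
      apply hne
      rcases K.zpow_a x.2 with e | e | e
      · exact absurd e hx1
      · rwa [← e]
      · have h2 := mul_mem hxJ hxJ
        rw [e, show K.a * K.a * (K.a * K.a) = K.a ^ 3 * K.a by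
          rw [pow_succ, pow_two]; simp only [mul_assoc], K.a_cube, one_mul] at h2
        exact h2
    rw [hx, mul_one] at h1
    exact Prod.ext (Subtype.ext h1) (Subtype.ext hx)
  have h1 := (K.π.comp f).ker.card_mul_index
  rw [index_ker, Nat.card_prod, K.card_J, K.card_zpow] at h1
  have hr : Nat.card (K.π.comp f).range ≤ 3 := by
    have h5 : Nat.card (K.π.comp f).range ∣ 81 := by
      have := card_range_dvd (K.π.comp f)
      rwa [Nat.card_prod, K.card_J, K.card_zpow] at this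
    have h6 : Nat.card (K.π.comp f).range ∣ 24 :=
      CfsgLib.PSpAmalgam.SL3.card_eq ▸ (K.π.comp f).range.card_subgroup_dvd_card
    exact Nat.le_of_dvd (by norm_num) ((Nat.dvd_gcd h5 h6).trans (by norm_num))
  have hk : 27 ≤ Nat.card (K.π.comp f).ker := by
    by_contra h
    nlinarith [Nat.mul_le_mul (show Nat.card (K.π.comp f).ker ≤ 26 by omega) hr]
  let g : K.J × zpowers K.a →* G := (centralizer ({K.a} : Set G)).subtype.comp f
  have hkR : (K.π.comp f).ker.map g ≤ K.R := by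
    rintro _ ⟨x, hx, rfl⟩
    exact (K.π_ker _).1 hx
  have heq := eq_of_le_of_card_ge hkR (by
    rw [K.card_R, card_map_of_injective (f := g) (fun u w e => hinj (Subtype.ext e))]; exact hk)
  have hab : ∀ r ∈ K.R, r ∈ zpowers K.a := fun r hr => K.R_center r hr fun t ht => by
    rw [← heq] at hr ht
    obtain ⟨x, -, rfl⟩ := hr
    obtain ⟨y, -, rfl⟩ := ht
    rw [← map_mul, ← map_mul]
    congr 1
    exact Prod.ext (Subtype.ext (K.J_comm _ x.1.2 _ y.1.2)) (Subtype.ext ((K.a_comm_zpow y.2.2 (g := (x.2 : G)) (K.R_comm _ (K.zpow_le x.2.2)))))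
  have h := card_le_of_le (fun r hr => hab r hr : K.R ≤ zpowers K.a)
  rw [K.card_R, K.card_zpow] at h
  omega

include hs hsa hsi in
/-- An element of `J` outside `R`. -/
theorem exists_out : ∃ j ∈ K.J, j ∉ K.R := by
  by_contra h
  push Not at h
  have heq := eq_of_le_of_card_ge (fun j hj => h j hj : K.J ≤ K.R) (by rw [K.card_R, K.card_J])
  have hab : ∀ r ∈ K.R, r ∈ zpowers K.a := fun r hr => K.R_center r hr fun t ht =>
    K.J_comm r (heq.symm ▸ hr) t (heq.symm ▸ ht)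
  have h := card_le_of_le (fun r hr => hab r hr : K.R ≤ zpowers K.a)
  rw [K.card_R, K.card_zpow] at h
  omega

theorem card_range_J : Nat.card K.πJ.range ∣ 3 := by
  have h5 : Nat.card K.πJ.range ∣ 27 := K.card_J ▸ card_range_dvd K.πJ
  have h6 : Nat.card K.πJ.range ∣ 24 :=
    CfsgLib.PSpAmalgam.SL3.card_eq ▸ K.πJ.range.card_subgroup_dvd_card
  simpa using Nat.dvd_gcd h5 h6

include hs hsa hsi in
theorem card_JR : Nat.card (K.J ⊓ K.R : Subgroup G) = 9 := by
  have h1 := K.πJ.ker.card_mul_index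
  rw [index_ker, K.card_J] at h1
  have h2 : K.πJ.ker.map K.J.subtype = K.J ⊓ K.R := by
    ext x
    constructor
    · rintro ⟨y, hy, rfl⟩
      exact ⟨y.2, (K.π_ker _).1 hy⟩
    · rintro ⟨hx, hxR⟩
      exact ⟨⟨x, hx⟩, (K.π_ker ⟨x, K.J_mem_cent hx⟩).2 hxR, rfl⟩
  have h3 : Nat.card K.πJ.range = 3 := by
    refine ((Nat.dvd_prime Nat.prime_three).1 K.card_range_J).resolve_left fun h => ?_
    obtain ⟨j, hj, hjR⟩ := K.exists_out hs hsa hsi
    have h4 : K.πJ.range = ⊥ := card_eq_one.1 h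
    have h5 : K.πJ ⟨j, hj⟩ ∈ (⊥ : Subgroup SL3) := h4 ▸ ⟨_, rfl⟩
    exact hjR ((K.img_eq_one (K.J_le j hj)).1 (by rw [← K.πJ_apply ⟨j, hj⟩]; exact mem_bot.1 h5))
  rw [← h2, card_map_of_injective K.J.subtype_injective]
  rw [h3] at h1
  omega

end CfsgLib.SpSixThree.Setup.Core
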