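import Cfsg.Agent.Lib.SpSixThree.Setup.Coord

/-!
The elements of `R`, of the Sylow subgroup and of the normalizer of `J` in `C(a)`.
-/

set_option autoImplicit false
set_option maxRecDepth 100000
set_option linter.unusedSectionVars false

namespace CfsgLib.SpSixThree.Setup.Ax

open Subgroup
open CfsgLib.PSpAmalgam (SL3 V3 zV eV gV actR actS)

universe u

variable {G : Type u} [Group G] [Finite G] {K : Core G} (A : Ax K)

include A in
theorem a_mem_J : K.a ∈ K.J := K.a_mem_J A.hs A.hsa A.hsi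

theorem img_e_ne : K.img A.e ≠ 1 := fun h => A.e_out ((K.img_eq_one (K.J_le _ A.e_mem)).1 h)

theorem img_e_cube : K.img A.e * K.img A.e * K.img A.e = 1 := by
  have ha := K.J_le _ A.e_mem
  rw [← K.img_mul ha ha, ← K.img_mul (K.comm_mul ha ha) ha, ← pow_two, ← pow_succ,
    K.J_cube _ A.e_mem]
  exact K.img_of_mem (one_mem _)

theorem img_g : K.img A.g = K.img A.e := by
  have hb := K.R_comm _ A.b_mem
  rw [g, K.img_mul (K.comm_mul hb (K.J_le _ A.e_mem)) (K.comm_inv hb),
    K.img_mul hb (K.J_le _ A.e_mem), K.img_inv hb, K.img_of_mem A.b_mem, one_mul, inv_one, mul_one]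

theorem img_h : K.img A.h = K.img A.e := by
  have hb := K.R_comm _ A.b_mem
  rw [h, K.img_mul (K.comm_mul (K.comm_inv hb) (K.J_le _ A.e_mem)) hb,
    K.img_mul (K.comm_inv hb) (K.J_le _ A.e_mem), K.img_inv hb, K.img_of_mem A.b_mem, inv_one,
    one_mul, mul_one]

theorem img_v (x : V3) : K.img (A.v x) = K.img A.e ^ (vsum x).val := by
  have hpow : ∀ {c : G}, c * K.a = K.a * c → ∀ n : ℕ, K.img (c ^ n) = K.img c ^ n := by
    intro c hc n
    induction n with
    | zero => rw [pow_zero, pow_zero, K.img_of_mem (one_mem _)]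
    | succ n ih =>
      rw [pow_succ, pow_succ, K.img_mul ((show Commute c K.a from hc).pow_left n).eq hc, ih]
  have he := K.J_le _ A.e_mem
  have hgc := K.J_le _ A.g_mem
  have hhc := K.J_le _ A.h_mem
  have h3 : K.img A.e ^ 3 = 1 := by rw [pow_succ, pow_two, A.img_e_cube]
  rw [v, K.img_mul (K.comm_mul ((show Commute A.e K.a from he).pow_left _).eq
    ((show Commute A.g K.a from hgc).pow_left _).eq) ((show Commute A.h K.a from hhc).pow_left _).eq,
    K.img_mul ((show Commute A.e K.a from he).pow_left _).eq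
      ((show Commute A.g K.a from hgc).pow_left _).eq, hpow he, hpow hgc, hpow hhc, A.img_g, A.img_h,
    vsum, ← val_pow h3, ← val_pow h3]

theorem v_mem_R (x : V3) : A.v x ∈ K.R ↔ vsum x = 0 := by
  rw [← K.img_eq_one (K.J_le _ (A.v_mem x)), A.img_v]
  constructor
  · intro h
    have hv : (vsum x).val = 0 := by
      by_contra hne
      have hd := orderOf_dvd_of_pow_eq_one h
      rw [orderOf_eq_prime (hp := ⟨Nat.prime_three⟩)
        (by rw [pow_succ, pow_two, A.img_e_cube]) A.img_e_ne] at hd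
      have := (vsum x).val_lt
      omega
    exact (ZMod.val_eq_zero _).1 hv
  · intro h; rw [h, ZMod.val_zero, pow_zero]

theorem R_form (r : G) (hr : r ∈ K.R) :
    ∃ x, ∃ i : Fin 3, vsum x = 0 ∧ r = A.v x * A.b ^ i.val := by
  let f : {x : V3 // vsum x = 0} × Fin 3 → K.R := fun p =>
    ⟨A.v p.1.1 * A.b ^ p.2.val, mul_mem ((A.v_mem_R _).2 p.1.2) (pow_mem A.b_mem _)⟩
  have hf : Function.Bijective f := by
    refine (Nat.bijective_iff_injective_and_card f).2 ⟨?_, ?_⟩
    · rintro ⟨⟨x, hx⟩, i⟩ ⟨⟨y, hy⟩, j⟩ h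
      have h1 : A.v x * A.b ^ i.val = A.v y * A.b ^ j.val := congrArg Subtype.val h
      have h2 : A.b ^ i.val * (A.b ^ j.val)⁻¹ ∈ K.J := by
        have : A.b ^ i.val * (A.b ^ j.val)⁻¹ = (A.v x)⁻¹ * A.v y := by
          rw [eq_inv_mul_iff_mul_eq, ← mul_assoc, h1]; group
        rw [this]; exact mul_mem (inv_mem (A.v_mem x)) (A.v_mem y)
      have hij : i = j := by
        by_contra hne
        apply A.b_out
        have hb3 := A.b_cube
        have key : ∀ i j : Fin 3, i ≠ j → (i.val + 2 * j.val) % 3 = 1 ∨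
            (i.val + 2 * j.val) % 3 = 2 := by decide
        have h3 : A.b ^ (i.val + 2 * j.val) ∈ K.J := by
          rw [pow_add, show A.b ^ (2 * j.val) = (A.b ^ j.val)⁻¹ from ?_]
          · exact h2
          · refine eq_inv_of_mul_eq_one_left ?_
            rw [← pow_add, show 2 * j.val + j.val = 3 * j.val by ring, pow_mul, K.R_cube _ A.b_mem,
              one_pow]
        rw [pow_eq_pow_mod _ (K.R_cube _ A.b_mem)] at h3
        rcases key i j hne with e | e <;> rw [e] at h3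
        · simpa using h3
        · have := mul_mem h3 h3
          rwa [← pow_add, pow_eq_pow_mod _ (K.R_cube _ A.b_mem),
            show (2 + 2) % 3 = 1 from rfl, pow_one] at this
      subst hij
      exact Prod.ext (Subtype.ext (A.v_inj (mul_right_cancel h1))) rfl
    · rw [K.card_R, Nat.card_prod, Nat.card_eq_fintype_card, Nat.card_eq_fintype_card]
      unfold vsum
      decide +kernel
  obtain ⟨⟨x, i⟩, h⟩ := hf.2 ⟨r, hr⟩
  exact ⟨x.1, i, x.2, (congrArg Subtype.val h).symm⟩

/-- The elements of the Sylow subgroup. -/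
theorem syl_form (c : G) (hc : c ∈ K.syl) : ∃ x, ∃ i : Fin 3, c = A.v x * A.b ^ i.val := by
  obtain ⟨hca, j, hj⟩ := K.mem_syl.1 hc
  rw [K.πJ_apply] at hj
  obtain ⟨y, hy⟩ := (A.mem_J j).1 j.2
  obtain ⟨x, i, -, hx⟩ := A.R_form _ (K.div_mem (K.J_le j j.2) hca hj)
  refine ⟨y + x, i, ?_⟩
  rw [A.v_add, mul_assoc, ← hx, hy, mul_inv_cancel_left]

/-- The elements of `C(a)` normalizing `J`. -/
theorem norm_form (c : G) (hca : c * K.a = K.a * c) (hc : ∀ j ∈ K.J, c * j * c⁻¹ ∈ K.J) :
    ∃ x, ∃ i : Fin 3, ∃ m : Fin 2, c = A.v x * A.b ^ i.val * A.s ^ m.val := by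
  have hea := K.J_le _ A.e_mem
  have hce : K.img c * K.img A.e * (K.img c)⁻¹ = K.img A.e ∨
      K.img c * K.img A.e * (K.img c)⁻¹ = K.img A.e * K.img A.e := by
    obtain ⟨x, hx⟩ := (A.mem_J _).1 (hc _ A.e_mem)
    have h1 := A.img_v x
    rw [hx, K.img_mul (K.comm_mul hca hea) (K.comm_inv hca), K.img_mul hca hea, K.img_inv hca] at h1
    have h3 := (vsum x).val_lt
    rcases (show (vsum x).val = 0 ∨ (vsum x).val = 1 ∨ (vsum x).val = 2 by omega) with e | e | e
    · rw [e, pow_zero, conj_eq_one_iff] at h1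
      exact absurd h1 A.img_e_ne
    · exact Or.inl (by rw [h1, e, pow_one])
    · exact Or.inr (by rw [h1, e, pow_two])
  have hu := sl_norm _ A.img_e_cube A.img_e_ne _ hce
  obtain ⟨m, hm⟩ : ∃ m : Fin 2, K.img c * (K.img A.s) ^ m.val ∈ K.πJ.range := by
    have h1 : K.img A.e ∈ K.πJ.range := ⟨⟨A.e, A.e_mem⟩, K.πJ_apply _⟩
    have hn : ∀ u : SL3, -u * -1 = u := fun u => by rw [neg_mul_neg, mul_one]
    rcases hu with e | e | e | e | e | e
    · exact ⟨0, by simp [e]⟩
    · exact ⟨1, by simp [e, A.hsi]⟩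
    · exact ⟨0, by simpa [e] using h1⟩
    · exact ⟨0, by simpa [e] using mul_mem h1 h1⟩
    · exact ⟨1, by simpa [e, A.hsi] using h1⟩
    · exact ⟨1, by simpa [e, A.hsi] using mul_mem h1 h1⟩
  have hsm : A.s ^ m.val * K.a = K.a * A.s ^ m.val :=
    ((show Commute A.s K.a from A.hsa).pow_left _).eq
  have hpow : K.img (A.s ^ m.val) = K.img A.s ^ m.val := by
    fin_cases m <;> simp [K.img_of_mem]
  obtain ⟨x, i, hx⟩ := A.syl_form (c * A.s ^ m.val) (K.mem_syl.2 ⟨K.comm_mul hca hsm, by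
    rw [K.img_mul hca hsm, hpow]; exact hm⟩)
  refine ⟨x, i, m, ?_⟩
  rw [← hx, mul_assoc, ← pow_add, ← two_mul, pow_mul, pow_two, A.hs, one_pow, mul_one]

theorem b_norm : A.b ∈ normalizer (K.J : Set G) := by
  refine mem_normalizer_iff.2 fun y => ⟨K.R_norm_J A.hs A.hsa A.hsi A.b_mem, fun h => ?_⟩
  have := K.R_norm_J A.hs A.hsa A.hsi (inv_mem A.b_mem) h
  rwa [inv_inv, show A.b⁻¹ * (A.b * y * A.b⁻¹) * A.b = y by group] at this

theorem s_norm : A.s ∈ normalizer (K.J : Set G) := by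
  refine mem_normalizer_iff.2 fun y => ⟨K.s_norm_J A.hs A.hsa A.hsi, fun h => ?_⟩
  have := K.s_norm_J A.hs A.hsa A.hsi h
  rwa [inv_eq_of_mul_eq_one_right A.hs, show A.s * (A.s * y * A.s) * A.s = (A.s * A.s) * y *
    (A.s * A.s) by group, A.hs, one_mul, mul_one] at this

/-- Shifting the frame. -/
def shift (t : ZMod 3) : Ax K :=
  { A with
    e := A.e * K.a ^ t.val
    e_mem := mul_mem A.e_mem (pow_mem A.a_mem_J _)
    e_out := fun h => A.e_out (by
      have := mul_mem h (inv_mem (pow_mem K.a_mem t.val))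
      rwa [mul_inv_cancel_right] at this)
    s_e := ((show Commute A.s A.e from A.s_e).mul_right
      ((show Commute A.s K.a from A.hsa).pow_right _)).eq
    prod := by
      have hb : Commute A.b (K.a ^ t.val) :=
        (show Commute A.b K.a from K.R_comm _ A.b_mem).pow_right _
      have h1 : A.b * (A.e * K.a ^ t.val) * A.b⁻¹ = A.g * K.a ^ t.val := by
        rw [g]
        calc A.b * (A.e * K.a ^ t.val) * A.b⁻¹
            = A.b * A.e * (K.a ^ t.val * A.b⁻¹) := by group
          _ = A.b * A.e * (A.b⁻¹ * K.a ^ t.val) := by rw [hb.inv_left.eq]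
          _ = _ := by group
      have h2 : A.b⁻¹ * (A.e * K.a ^ t.val) * A.b = A.h * K.a ^ t.val := by
        rw [h]
        calc A.b⁻¹ * (A.e * K.a ^ t.val) * A.b = A.b⁻¹ * A.e * (K.a ^ t.val * A.b) := by group
          _ = A.b⁻¹ * A.e * (A.b * K.a ^ t.val) := by rw [hb.eq]
          _ = _ := by group
      rw [h1, h2]
      have c : ∀ x ∈ K.J, Commute (K.a ^ t.val) x := fun x hx =>
        (show Commute x K.a from K.J_le x hx).symm.pow_left _
      calc A.e * K.a ^ t.val * (A.g * K.a ^ t.val) * (A.h * K.a ^ t.val)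
          = A.e * (K.a ^ t.val * A.g) * (K.a ^ t.val * A.h) * K.a ^ t.val := by group
        _ = A.e * (A.g * K.a ^ t.val) * (A.h * K.a ^ t.val) * K.a ^ t.val := by
          rw [(c _ A.g_mem).eq, (c _ A.h_mem).eq]
        _ = A.e * A.g * (K.a ^ t.val * A.h) * K.a ^ t.val * K.a ^ t.val := by group
        _ = A.e * A.g * (A.h * K.a ^ t.val) * K.a ^ t.val * K.a ^ t.val := by
          rw [(c _ A.h_mem).eq]
        _ = A.e * A.g * A.h * (K.a ^ t.val) ^ 3 := by
          rw [pow_succ _ 2, pow_two]; simp only [mul_assoc]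
        _ = K.a := by rw [A.prod', ← pow_mul, mul_comm, pow_mul, K.a_cube, one_pow, mul_one] }

end CfsgLib.SpSixThree.Setup.Ax
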