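import Cfsg.Agent.Lib.SpSixThree.Setup.SL
import Cfsg.Agent.Lib.SpSixThree.Defs
import Cfsg.Agent.Lib.Base.Cores

/-!
The structure of the centralizer of `a`.
-/

set_option autoImplicit false
set_option maxRecDepth 100000
set_option linter.unusedSectionVars false
set_option linter.style.haveILetI false

namespace CfsgLib.SpSixThree.Setup

open Subgroup
open CfsgLib.PSpAmalgam (SL3)

universe u

/-- The hypotheses on `a`, `R` and `J`. -/
structure Core (G : Type u) [Group G] where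
  a : G
  R : Subgroup G
  J : Subgroup G
  a_cube : a ^ 3 = 1
  a_ne : a ≠ 1
  a_mem : a ∈ R
  card_R : Nat.card R = 27
  R_cube : ∀ r ∈ R, r ^ 3 = 1
  R_comm : ∀ r ∈ R, r * a = a * r
  R_center : ∀ r ∈ R, (∀ s ∈ R, r * s = s * r) → r ∈ zpowers a
  R_derived : ∀ r ∈ R, ∀ s ∈ R, r * s * r⁻¹ * s⁻¹ ∈ zpowers a
  R_norm : ∀ c, c * a = a * c → ∀ r ∈ R, c * r * c⁻¹ ∈ R
  π : ↥(centralizer ({a} : Set G)) →* SL3
  π_surj : Function.Surjective π
  π_ker : ∀ c, π c = 1 ↔ (c : G) ∈ R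
  J_le : ∀ j ∈ J, j * a = a * j
  J_comm : ∀ i ∈ J, ∀ j ∈ J, i * j = j * i
  J_cube : ∀ j ∈ J, j ^ 3 = 1
  card_J : Nat.card J = 27
  sig : ∀ K : Subgroup G, (Nat.card K).Coprime 3 → J ≤ normalizer (K : Set G) → K = ⊥

variable {G : Type u} [Group G] [Finite G]

/-- The hypotheses of the statement give the core data. -/
theorem exists_core (a : G) (ha : orderOf a = 3) (C : Subgroup G) (hC : C = centralizer ({a} : Set G))
    (hR : Cfsg.IsExtraspecial 3 (Cfsg.pCore 3 C)) (hRcard : Nat.card (Cfsg.pCore 3 C) = 27)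
    (hRexp : ∀ r ∈ Cfsg.pCore 3 C, r ^ 3 = 1)
    (e : C ⧸ Cfsg.pCore 3 C ≃* SL3) (J : Subgroup G) (hJC : J ≤ C) (hJcomm : IsMulCommutative J)
    (hJexp : ∀ j ∈ J, j ^ 3 = 1) (hJcard : Nat.card J = 27)
    (hJsig : ∀ K : Subgroup G, (Nat.card K).Coprime 3 →
      (∀ j ∈ J, K.map (MulAut.conj j).toMonoidHom = K) → K = ⊥) :
    ∃ K : Core G, K.a = a ∧ K.J = J := by
  subst hC
  haveI : Fact (Nat.Prime 3) := ⟨Nat.prime_three⟩
  set P := Cfsg.pCore 3 (centralizer ({a} : Set G)) with hP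
  have haC : a ∈ centralizer ({a} : Set G) := mem_centralizer_singleton_iff.2 rfl
  have ha3 : a ^ 3 = 1 := ha ▸ pow_orderOf_eq_one a
  have hac : ∀ x : centralizer ({a} : Set G), x * ⟨a, haC⟩ = ⟨a, haC⟩ * x := fun x =>
    Subtype.ext (mem_centralizer_singleton_iff.1 x.2)
  have haP : (⟨a, haC⟩ : centralizer ({a} : Set G)) ∈ P := by
    haveI : (zpowers (⟨a, haC⟩ : centralizer ({a} : Set G))).Normal := by
      refine ⟨fun x hx g => ?_⟩
      obtain ⟨i, rfl⟩ := mem_zpowers_iff.1 hx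
      rw [((show Commute g ⟨a, haC⟩ from hac g).zpow_right i).eq, mul_inv_cancel_right]
      exact zpow_mem (mem_zpowers _) i
    have ho : Nat.card (zpowers (⟨a, haC⟩ : centralizer ({a} : Set G))) = 3 ^ 1 := by
      rw [Nat.card_zpowers, Subgroup.orderOf_mk, ha, pow_one]
    exact CfsgLib.Base.le_pCore (IsPGroup.of_card ho) (mem_zpowers _)
  let R : Subgroup G := P.map (centralizer ({a} : Set G)).subtype
  have hmem : ∀ x : centralizer ({a} : Set G), x ∈ P ↔ (x : G) ∈ R := fun x =>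
    (mem_map_iff_mem (centralizer ({a} : Set G)).subtype_injective).symm
  have hzc : ∀ z : P, z ∈ Subgroup.center P → ((z : centralizer ({a} : Set G)) : G) ∈ zpowers a := by
    have h1 : (zpowers (⟨⟨a, haC⟩, haP⟩ : P)) = Subgroup.center P := by
      refine eq_of_le_of_card_ge (zpowers_le.2 (mem_center_iff.2 fun s => Subtype.ext (hac s))) ?_
      rw [hR.2, Nat.card_zpowers, Subgroup.orderOf_mk, Subgroup.orderOf_mk, ha]
    intro z hz
    rw [← h1] at hz
    obtain ⟨i, rfl⟩ := mem_zpowers_iff.1 hz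
    exact ⟨i, by simp⟩
  refine ⟨{
    a := a
    R := R
    J := J
    a_cube := ha3
    a_ne := fun h => by rw [h, orderOf_one] at ha; omega
    a_mem := (hmem _).1 haP
    card_R := by rw [card_map_of_injective (centralizer ({a} : Set G)).subtype_injective, hRcard]
    R_cube := fun r hr => by
      obtain ⟨x, hx, rfl⟩ := hr
      rw [← map_pow, hRexp x hx, map_one]
    R_comm := fun r hr => by
      obtain ⟨x, -, rfl⟩ := hr
      exact mem_centralizer_singleton_iff.1 x.2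
    R_center := fun r hr hs => by
      obtain ⟨x, hx, rfl⟩ := hr
      refine hzc ⟨x, hx⟩ (mem_center_iff.2 fun s => ?_)
      exact Subtype.ext (Subtype.ext (hs _ ((hmem _).1 s.2)).symm)
    R_derived := fun r hr s hs => by
      obtain ⟨x, hx, rfl⟩ := hr
      obtain ⟨y, hy, rfl⟩ := hs
      refine hzc (⟨x, hx⟩ * ⟨y, hy⟩ * ⟨x, hx⟩⁻¹ * ⟨y, hy⟩⁻¹) ?_
      rw [← hR.1.2.2]
      rw [commutator_eq_closure]
      exact subset_closure ⟨⟨x, hx⟩, ⟨y, hy⟩, commutatorElement_def _ _⟩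
    R_norm := fun c hc r hr => by
      obtain ⟨x, hx, rfl⟩ := hr
      exact ⟨⟨c, mem_centralizer_singleton_iff.2 hc⟩ * x *
        ⟨c, mem_centralizer_singleton_iff.2 hc⟩⁻¹,
        (inferInstance : P.Normal).conj_mem x hx _, rfl⟩
    π := e.toMonoidHom.comp (QuotientGroup.mk' P)
    π_surj := e.surjective.comp (QuotientGroup.mk'_surjective _)
    π_ker := fun c => by
      show e (QuotientGroup.mk c) = 1 ↔ _
      rw [MulEquiv.map_eq_one_iff, QuotientGroup.eq_one_iff, hmem]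
    J_le := fun j hj => mem_centralizer_singleton_iff.1 (hJC hj)
    J_comm := fun i hi j hj => congrArg Subtype.val (hJcomm.is_comm.comm ⟨i, hi⟩ ⟨j, hj⟩)
    J_cube := hJexp
    card_J := hJcard
    sig := fun K hK hJK => hJsig K hK fun j hj => ?_ }, rfl, rfl⟩
  ext y
  constructor
  · rintro ⟨k, hk, rfl⟩
    exact (mem_normalizer_iff.1 (hJK hj) k).1 hk
  · intro hy
    refine ⟨j⁻¹ * y * j, ?_, by simp [mul_assoc]⟩
    refine (mem_normalizer_iff.1 (hJK hj) _).2 ?_
    rwa [show j * (j⁻¹ * y * j) * j⁻¹ = y by group]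

namespace Core

variable (K : Core G)

theorem zpow_a {x : G} (h : x ∈ zpowers K.a) : x = 1 ∨ x = K.a ∨ x = K.a * K.a := by
  obtain ⟨i, rfl⟩ := mem_zpowers_iff.1 h
  rw [← zpow_mod_orderOf, orderOf_eq_prime (hp := ⟨Nat.prime_three⟩) K.a_cube K.a_ne]
  rcases (show i % ((3 : ℕ) : ℤ) = 0 ∨ i % ((3 : ℕ) : ℤ) = 1 ∨ i % ((3 : ℕ) : ℤ) = 2 by omega)
    with e | e | e <;> rw [e]
  · exact Or.inl (zpow_zero _)
  · exact Or.inr (Or.inl (zpow_one _))
  · exact Or.inr (Or.inr (by rw [show (2 : ℤ) = ((2 : ℕ) : ℤ) from rfl, zpow_natCast, pow_two]))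

theorem a_comm_zpow {x g : G} (h : x ∈ zpowers K.a) (hg : g * K.a = K.a * g) : g * x = x * g := by
  obtain ⟨i, rfl⟩ := mem_zpowers_iff.1 h
  exact ((show Commute g K.a from hg).zpow_right i).eq

theorem zpow_le : zpowers K.a ≤ K.R := zpowers_le.2 K.a_mem

/-- An element of exponent two and three is trivial. -/
theorem eq_one_of {x : G} (h2 : x * x = 1) (h3 : x ^ 3 = 1) : x = 1 := by
  rwa [pow_succ, pow_two, h2, one_mul] at h3

/-- `π` on elements of `G`. -/
theorem mk_mem {c : G} (h : c * K.a = K.a * c) : c ∈ centralizer ({K.a} : Set G) :=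
  mem_centralizer_singleton_iff.2 h

/-- The image in `SL₂(3)` of an element commuting with `a`. -/
noncomputable def img (c : G) : SL3 :=
  open scoped Classical in if h : c ∈ centralizer ({K.a} : Set G) then K.π ⟨c, h⟩ else 1

theorem img_eq {c : G} (h : c ∈ centralizer ({K.a} : Set G)) : K.img c = K.π ⟨c, h⟩ := by
  rw [img, dif_pos h]

theorem img_mul {c d : G} (hc : c * K.a = K.a * c) (hd : d * K.a = K.a * d) :
    K.img (c * d) = K.img c * K.img d := by
  rw [K.img_eq (K.mk_mem hc), K.img_eq (K.mk_mem hd), ← map_mul,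
    K.img_eq (mul_mem (K.mk_mem hc) (K.mk_mem hd))]
  rfl

theorem img_inv {c : G} (hc : c * K.a = K.a * c) : K.img c⁻¹ = (K.img c)⁻¹ := by
  rw [K.img_eq (K.mk_mem hc), ← map_inv, K.img_eq (inv_mem (K.mk_mem hc))]
  rfl

theorem img_eq_one {c : G} (hc : c * K.a = K.a * c) : K.img c = 1 ↔ c ∈ K.R := by
  rw [K.img_eq (K.mk_mem hc), K.π_ker]

theorem img_of_mem {r : G} (hr : r ∈ K.R) : K.img r = 1 :=
  (K.img_eq_one (K.R_comm r hr)).2 hr

theorem exists_img (u : SL3) : ∃ c, c * K.a = K.a * c ∧ K.img c = u := by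
  obtain ⟨c, rfl⟩ := K.π_surj u
  exact ⟨c, mem_centralizer_singleton_iff.1 c.2, by rw [K.img_eq c.2]⟩

theorem comm_mul {c d : G} (hc : c * K.a = K.a * c) (hd : d * K.a = K.a * d) :
    c * d * K.a = K.a * (c * d) := ((show Commute c K.a from hc).mul_left hd).eq

theorem comm_inv {c : G} (hc : c * K.a = K.a * c) : c⁻¹ * K.a = K.a * c⁻¹ :=
  (show Commute c K.a from hc).inv_left.eq

/-- Two elements with equal images differ by an element of `R`. -/
theorem div_mem {c d : G} (hc : c * K.a = K.a * c) (hd : d * K.a = K.a * d)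
    (h : K.img c = K.img d) : c⁻¹ * d ∈ K.R := by
  rw [← K.img_eq_one (K.comm_mul (K.comm_inv hc) hd), K.img_mul (K.comm_inv hc) hd,
    K.img_inv hc, h, inv_mul_cancel]

/-- An involution over `-1`. -/
theorem exists_sigma : ∃ s, s * s = 1 ∧ s * K.a = K.a * s ∧ K.img s = -1 := by
  obtain ⟨c, hc, hu⟩ := K.exists_img (-1)
  have h2 : c * c ∈ K.R := by
    rw [← K.img_eq_one (K.comm_mul hc hc), K.img_mul hc hc, hu]
    exact (by decide +kernel : (-1 : SL3) * -1 = 1)
  refine ⟨c * c * c, ?_, K.comm_mul (K.comm_mul hc hc) hc, ?_⟩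
  · have := K.R_cube _ h2
    rw [← this, pow_succ, pow_two]; group
  · rw [K.img_mul (K.comm_mul hc hc) hc, K.img_mul hc hc, hu]
    exact (by decide +kernel : (-1 : SL3) * -1 * -1 = -1)

variable {s : G} (hs : s * s = 1) (hsa : s * K.a = K.a * s) (hsi : K.img s = -1)

include hs in
theorem s_inv : s⁻¹ = s := inv_eq_of_mul_eq_one_right hs

include hs hsa hsi in
/-- Every element of `SL₂(3)` lifts to an element commuting with the involution. -/
theorem lift (u : SL3) : ∃ c, c * K.a = K.a * c ∧ c * s = s * c ∧ K.img c = u := by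
  obtain ⟨c, hc, hu⟩ := K.exists_img u
  obtain ⟨t, ht⟩ : ∃ t, t = s * (c * s * c⁻¹) := ⟨_, rfl⟩
  have hcs := K.comm_mul (K.comm_mul hc hsa) (K.comm_inv hc)
  have htR : t ∈ K.R := by
    rw [ht, ← K.img_eq_one (K.comm_mul hsa hcs), K.img_mul hsa hcs,
      K.img_mul (K.comm_mul hc hsa) (K.comm_inv hc), K.img_mul hc hsa, K.img_inv hc, hu, hsi,
      ← sl_neg_central u, mul_inv_cancel_right]
    exact (by decide +kernel : (-1 : SL3) * -1 = 1)
  have h1 : c * s * c⁻¹ = s * t := by rw [ht, ← mul_assoc, hs, one_mul]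
  have hinv : s * t * s = t⁻¹ := by
    refine eq_inv_of_mul_eq_one_left ?_
    calc s * t * s * t = (s * t) * (s * t) := by group
      _ = c * (s * s) * c⁻¹ := by rw [← h1]; group
      _ = 1 := by rw [hs]; group
  have h2 : t * s * t⁻¹ = s * t := by
    calc t * s * t⁻¹ = s * (s * t * s) * t⁻¹ := by
          rw [show s * (s * t * s) = (s * s) * t * s by group, hs, one_mul]
      _ = s * (t⁻¹ * t⁻¹) := by rw [hinv]; group
      _ = s * (t⁻¹ * t⁻¹ * t ^ 3) := by rw [K.R_cube t htR, mul_one]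
      _ = s * t := by group
  refine ⟨t⁻¹ * c, K.comm_mul (K.comm_inv (K.R_comm t htR)) hc, ?_, ?_⟩
  · calc t⁻¹ * c * s = t⁻¹ * (c * s * c⁻¹) * c := by group
      _ = t⁻¹ * (t * s * t⁻¹) * c := by rw [h1, h2]
      _ = s * (t⁻¹ * c) := by group
  · rw [K.img_mul (K.comm_inv (K.R_comm t htR)) hc, K.img_inv (K.R_comm t htR), K.img_of_mem htR,
      inv_one, one_mul, hu]

/-- The centralizer of `s` in `R`. -/
def fixR (t : G) : Subgroup G := K.R ⊓ centralizer ({t} : Set G)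

theorem mem_fixR {t r : G} : r ∈ K.fixR t ↔ r ∈ K.R ∧ r * t = t * r := by
  rw [fixR, mem_inf, mem_centralizer_singleton_iff]

include hsa in
theorem zpow_le_fixR : zpowers K.a ≤ K.fixR s :=
  zpowers_le.2 (K.mem_fixR.2 ⟨K.a_mem, hsa.symm⟩)

include hs hsa hsi in
theorem fixR_norm {c : G} (hc : c * K.a = K.a * c) {r : G} (hr : r ∈ K.fixR s) :
    c * r * c⁻¹ ∈ K.fixR s := by
  obtain ⟨d, hd, hds, hdi⟩ := K.lift hs hsa hsi (K.img c)
  obtain ⟨hrR, hrs⟩ := K.mem_fixR.1 hr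
  have ht : d⁻¹ * c ∈ K.R := K.div_mem hd hc hdi
  have h1 : d⁻¹ * c * r * (d⁻¹ * c)⁻¹ ∈ K.fixR s := by
    have h2 := mul_mem (K.zpow_le_fixR hsa (K.R_derived _ ht r hrR)) hr
    rwa [inv_mul_cancel_right] at h2
  obtain ⟨h3, h4⟩ := K.mem_fixR.1 h1
  have e : c * r * c⁻¹ = d * (d⁻¹ * c * r * (d⁻¹ * c)⁻¹) * d⁻¹ := by group
  rw [e]
  refine K.mem_fixR.2 ⟨K.R_norm d hd _ h3, ?_⟩
  have hh : Commute s d := hds.symm
  exact ((hh.mul_right (show Commute s _ from h4.symm)).mul_right hh.inv_right).eq.symm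

include hs hsa hsi in
/-- The involution centralizes only `⟨a⟩` in `R`. -/
theorem sigma_fix {r : G} (hr : r ∈ K.R) (hrs : r * s = s * r) : r ∈ zpowers K.a := by
  haveI : Fact (Nat.Prime 3) := ⟨Nat.prime_three⟩
  by_contra hne
  have hr0 : r ∈ K.fixR s := K.mem_fixR.2 ⟨hr, hrs⟩
  by_cases hall : ∀ t ∈ K.R, t * s = s * t
  · -- the involution would be central in `C`
    have hcen : ∀ j ∈ K.J, j * s = s * j := by
      intro j hj
      have hja := K.J_le j hj
      have hjs := K.comm_mul (K.comm_mul hja hsa) (K.comm_inv hja)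
      have ht : s * (j * s * j⁻¹) ∈ K.R := by
        rw [← K.img_eq_one (K.comm_mul hsa hjs), K.img_mul hsa hjs,
          K.img_mul (K.comm_mul hja hsa) (K.comm_inv hja), K.img_mul hja hsa, K.img_inv hja, hsi,
          ← sl_neg_central, mul_inv_cancel_right]
        exact (by decide +kernel : (-1 : SL3) * -1 = 1)
      have h1 : s * (j * s * j⁻¹) * (s * (j * s * j⁻¹)) = 1 := by
        have hc2 : s * (j * s * j⁻¹) * s = s * (s * (j * s * j⁻¹)) := hall _ ht
        calc s * (j * s * j⁻¹) * (s * (j * s * j⁻¹))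
            = s * (j * s * j⁻¹) * s * (j * s * j⁻¹) := by group
          _ = s * (s * (j * s * j⁻¹)) * (j * s * j⁻¹) := by rw [hc2]
          _ = s * s * (j * (s * s) * j⁻¹) := by group
          _ = 1 := by rw [hs]; group
      have h2 := eq_one_of h1 (K.R_cube _ ht)
      have h3 : j * s * j⁻¹ = s := by
        have := eq_inv_of_mul_eq_one_right h2
        rwa [inv_eq_of_mul_eq_one_right hs] at this
      exact mul_inv_eq_iff_eq_mul.1 h3
    have hbot := K.sig (zpowers s) ?_ ?_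
    · have h1 : s = 1 := by rw [← mem_bot, ← hbot]; exact mem_zpowers s
      rw [h1, K.img_of_mem (one_mem _)] at hsi
      exact CfsgLib.PSpAmalgam.SL3.neg_one_ne hsi.symm
    · rw [Nat.card_zpowers]
      exact Nat.Coprime.coprime_dvd_left (orderOf_dvd_of_pow_eq_one (by rw [pow_two, hs]))
        (by norm_num)
    · intro j hj
      refine mem_normalizer_iff.2 fun w => ?_
      have hw : ∀ w ∈ zpowers s, j * w * j⁻¹ = w := by
        intro w hw
        obtain ⟨i, rfl⟩ := mem_zpowers_iff.1 hw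
        rw [((show Commute j s from hcen j hj).zpow_right i).eq, mul_inv_cancel_right]
      constructor
      · intro h; rw [hw w h]; exact h
      · intro h
        have h' := hw _ h
        have e : j * w * j⁻¹ = w := mul_left_cancel (mul_right_cancel h')
        rwa [e] at h
  -- otherwise the centralizer has index three and is normal in `C`
  push_neg at hall
  obtain ⟨x, hx, hxs⟩ := hall
  have hcard : Nat.card (K.fixR s) = 9 := by
    show Nat.card ↥(K.fixR s) = 9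
    have hlt : K.fixR s < K.R := lt_of_le_of_ne inf_le_left fun h => hxs (by
      rw [← h] at hx; exact (K.mem_fixR.1 hx).2)
    have hgt : zpowers K.a < K.fixR s := lt_of_le_of_ne (K.zpow_le_fixR hsa) fun h => hne (by
      rw [← h] at hr0; exact hr0)
    have h27 := K.card_R
    have hd := card_dvd_of_le (show K.fixR s ≤ K.R from inf_le_left)
    rw [h27, show (27 : ℕ) = 3 ^ 3 by norm_num] at hd
    obtain ⟨i, hi, hc⟩ := (Nat.dvd_prime_pow Nat.prime_three).1 hd
    have h1 : Nat.card (zpowers K.a) < Nat.card (K.fixR s) := by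
      by_contra h
      exact hgt.ne (eq_of_le_of_card_ge hgt.le (not_lt.1 h))
    have h2 : Nat.card (K.fixR s) < Nat.card K.R := by
      by_contra h
      exact hlt.ne (eq_of_le_of_card_ge hlt.le (not_lt.1 h))
    rw [Nat.card_zpowers, orderOf_eq_prime K.a_cube K.a_ne, hc] at h1
    rw [h27, hc] at h2
    interval_cases i <;> simp_all
  obtain ⟨u, hu⟩ := sl_four
  obtain ⟨c, hc, hcu⟩ := K.exists_img u
  have hn : ∀ {d : G}, d * K.a = K.a * d → ∀ {w : G}, w ∈ K.fixR s → d * w * d⁻¹ ∈ K.fixR s :=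
    fun hd _ hw => K.fixR_norm hs hsa hsi hd hw
  have hidx : ((K.fixR s).subgroupOf K.R).index = 3 := by
    have h1 := ((K.fixR s).subgroupOf K.R).card_mul_index
    rw [Nat.card_congr (subgroupOfEquivOfLe (show K.fixR s ≤ K.R from inf_le_left)).toEquiv, hcard,
      K.card_R] at h1
    omega
  haveI : ((K.fixR s).subgroupOf K.R).Normal :=
    ⟨fun w hw g => mem_subgroupOf.2 (hn (K.R_comm _ g.2) (mem_subgroupOf.1 hw))⟩
  let q : K.R →* K.R ⧸ (K.fixR s).subgroupOf K.R := QuotientGroup.mk' _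
  have hq : ∀ w : K.R, q w = 1 ↔ (w : G) ∈ K.fixR s := fun w => by
    rw [QuotientGroup.mk'_apply, QuotientGroup.eq_one_iff, mem_subgroupOf]
  have hqc : Nat.card (K.R ⧸ (K.fixR s).subgroupOf K.R) = 3 := hidx
  have hcases : ∀ w : K.R, q w = 1 ∨ q w = q ⟨x, hx⟩ ∨ q w = q ⟨x, hx⟩ * q ⟨x, hx⟩ := by
    intro w
    have hx1 : q ⟨x, hx⟩ ≠ 1 := fun h => hxs (K.mem_fixR.1 ((hq _).1 h)).2
    have ho := orderOf_eq_prime (show q ⟨x, hx⟩ ^ 3 = 1 by
      rw [← hqc]; exact pow_card_eq_one') hx1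
    have htop : zpowers (q ⟨x, hx⟩) = ⊤ := Subgroup.eq_top_of_card_eq _ (by
      rw [Nat.card_zpowers, ho, hqc])
    obtain ⟨i, hi⟩ := mem_zpowers_iff.1 (htop ▸ mem_top (q w))
    rw [← zpow_mod_orderOf, ho] at hi
    rcases (show i % ((3 : ℕ) : ℤ) = 0 ∨ i % ((3 : ℕ) : ℤ) = 1 ∨ i % ((3 : ℕ) : ℤ) = 2 by omega)
      with e | e | e <;> rw [e] at hi
    · exact Or.inl (by rw [← hi, zpow_zero])
    · exact Or.inr (Or.inl (by rw [← hi, zpow_one]))
    · exact Or.inr (Or.inr (by rw [← hi, show (2 : ℤ) = 1 + 1 by norm_num, zpow_add, zpow_one]))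
  let act : ∀ d : G, d * K.a = K.a * d → K.R → K.R := fun d hd w =>
    ⟨d * w * d⁻¹, K.R_norm d hd w w.2⟩
  have hact : ∀ d hd (w w' : K.R), q w = q w' → q (act d hd w) = q (act d hd w') := by
    intro d hd w w' h
    have h1 : ((w⁻¹ * w' : K.R) : G) ∈ K.fixR s := (hq _).1 (by
      rw [map_mul, map_inv, h, inv_mul_cancel])
    have h2 := hn hd h1
    have h3 : q ((act d hd w)⁻¹ * act d hd w') = 1 := (hq _).2 (by
      show (d * w * d⁻¹)⁻¹ * (d * w' * d⁻¹) ∈ K.fixR s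
      rw [show (d * (w : G) * d⁻¹)⁻¹ * (d * w' * d⁻¹) = d * ((w⁻¹ * w' : K.R) : G) * d⁻¹ by
        simp [mul_assoc]]
      exact h2)
    rw [map_mul, map_inv, inv_mul_eq_one] at h3
    exact h3
  have hsq : q (act (c * c) (K.comm_mul hc hc) ⟨x, hx⟩) = q ⟨x, hx⟩ := by
    have e : act (c * c) (K.comm_mul hc hc) ⟨x, hx⟩ = act c hc (act c hc ⟨x, hx⟩) :=
      Subtype.ext (by show c * c * x * (c * c)⁻¹ = c * (c * x * c⁻¹) * c⁻¹; group)
    rw [e]
    have hmul : ∀ w w', act c hc (w * w') = act c hc w * act c hc w' := fun w w' =>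
      Subtype.ext (by show c * (w * w' : G) * c⁻¹ = c * w * c⁻¹ * (c * w' * c⁻¹); group)
    have hx3 : q ⟨x, hx⟩ ^ 3 = 1 := by rw [← hqc]; exact pow_card_eq_one'
    rcases hcases (act c hc ⟨x, hx⟩) with h | h | h
    · exfalso
      have h2 := hn (K.comm_inv hc) ((hq _).1 h)
      rw [show c⁻¹ * ((act c hc ⟨x, hx⟩ : K.R) : G) * c⁻¹⁻¹ = x by
        show c⁻¹ * (c * x * c⁻¹) * c⁻¹⁻¹ = x; group] at h2
      exact hxs (K.mem_fixR.1 h2).2
    · rw [hact c hc _ ⟨x, hx⟩ h, h]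
    · rw [hact c hc _ (⟨x, hx⟩ * ⟨x, hx⟩) (by rw [h, map_mul]), hmul, map_mul, h]
      have key : ∀ y : K.R ⧸ (K.fixR s).subgroupOf K.R, y ^ 3 = 1 → y * y * (y * y) = y := by
        intro y hy3
        rw [show y * y * (y * y) = y ^ 3 * y by rw [pow_succ, pow_two]; simp only [mul_assoc], hy3,
          one_mul]
      exact key _ hx3
  have ht : (c * c)⁻¹ * s ∈ K.R := K.div_mem (K.comm_mul hc hc) hsa (by
    rw [K.img_mul hc hc, hcu, hu, hsi])
  have hcc := K.comm_mul hc hc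
  have hsact : q (act s hsa ⟨x, hx⟩) = q ⟨x, hx⟩ := by
    have e : q (act ((c * c)⁻¹ * s) (K.comm_mul (K.comm_inv (K.comm_mul hc hc)) hsa) ⟨x, hx⟩) =
        q ⟨x, hx⟩ := by
      rw [← inv_mul_eq_one, ← map_inv, ← map_mul, hq]
      set t := (c * c)⁻¹ * s
      show (t * x * t⁻¹)⁻¹ * x ∈ K.fixR s
      have h2 := K.zpow_le_fixR hsa (K.R_derived x hx _ ht)
      have h3 := hn (K.comm_inv (K.R_comm x hx)) h2
      rw [show (t * x * t⁻¹)⁻¹ * x = x⁻¹ * (x * t * x⁻¹ * t⁻¹) * x⁻¹⁻¹ by group]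
      exact h3
    rw [show act s hsa ⟨x, hx⟩ = act (c * c) (K.comm_mul hc hc) (act ((c * c)⁻¹ * s)
      (K.comm_mul (K.comm_inv (K.comm_mul hc hc)) hsa) ⟨x, hx⟩) from Subtype.ext (by
        show s * x * s⁻¹ = c * c * ((c * c)⁻¹ * s * x * ((c * c)⁻¹ * s)⁻¹) * (c * c)⁻¹; group),
      hact _ (K.comm_mul hc hc) _ _ e, hsq]
  rw [eq_comm, ← inv_mul_eq_one, ← map_inv, ← map_mul, hq] at hsact
  obtain ⟨y, hy⟩ : ∃ y, y = x⁻¹ * (s * x * s⁻¹) := ⟨_, rfl⟩
  have hyf : y ∈ K.fixR s := by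
    rw [hy]; simpa [act] using hsact
  obtain ⟨hyR, hys⟩ := K.mem_fixR.1 hyf
  have hsi' : s⁻¹ = s := inv_eq_of_mul_eq_one_right hs
  have h3 : y * y = 1 := by
    have e : y = s * y * s⁻¹ := by rw [← hys, mul_inv_cancel_right]
    conv_lhs => arg 2; rw [e]
    rw [hy, hsi']
    calc x⁻¹ * (s * x * s) * (s * (x⁻¹ * (s * x * s)) * s)
        = x⁻¹ * s * x * (s * s) * x⁻¹ * s * x * (s * s) := by group
      _ = x⁻¹ * (s * s) * x := by
          rw [hs]
          simp only [mul_one, mul_assoc, mul_inv_cancel_left]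
          rw [← mul_assoc s, hs, one_mul]
      _ = 1 := by rw [hs]; group
  have h4 := eq_one_of h3 (K.R_cube y hyR)
  rw [hy, inv_mul_eq_one] at h4
  exact hxs (mul_inv_eq_iff_eq_mul.1 h4.symm).symm

end Core

end CfsgLib.SpSixThree.Setup
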