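import Cfsg.Agent.Lib.SpSixThree.Setup.Form
import Cfsg.Agent.Lib.SNineThree.Classify

/-!
The normalizer of `J` is monomial in shifted coordinates.
-/

set_option autoImplicit false
set_option maxRecDepth 100000
set_option linter.unusedSectionVars false

namespace CfsgLib.SpSixThree.Setup

open Subgroup
open scoped Matrix
open CfsgLib.PSpAmalgam (SL3 V3 zV eV gV actR actS)
open CfsgLib.SNineThree (M3)

universe u

/-- triples as functions -/
def toF (x : V3) : Fin 3 → ZMod 3 := ![x.1, x.2.1, x.2.2]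
/-- functions as triples -/
def ofF (f : Fin 3 → ZMod 3) : V3 := (f 0, f 1, f 2)

theorem ofF_add (f g : Fin 3 → ZMod 3) : ofF (f + g) = ofF f + ofF g := rfl
theorem toF_add (x y : V3) : toF (x + y) = toF x + toF y := by
  funext i; fin_cases i <;> simp [toF]
theorem ofF_toF (x : V3) : ofF (toF x) = x := by simp [ofF, toF]
theorem toF_ofF (f : Fin 3 → ZMod 3) : toF (ofF f) = f := by
  funext i; fin_cases i <;> simp [ofF, toF]

theorem act8_add (k : K8) (x y : V3) : act8 k (x + y) = act8 k x + act8 k y := by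
  have h3 : ∀ u w : V3, actR (u + w) = actR u + actR w := fun u w => rfl
  have h4 : ∀ u w : V3, actS (u + w) = actS u + actS w := fun u w => rfl
  have hs : ∀ (i : Fin 2) (a b : ZMod 3), sg i (a + b) = sg i a + sg i b := by decide
  obtain ⟨s, l, m⟩ := k
  fin_cases l <;> fin_cases m <;> simp [act8, Function.iterate_succ, h3, h4, hs]

/-- the basis vector -/
def dlt (i : Fin 3) : V3 := ofF (Pi.single i 1)

theorem perm_real : ∀ π : Equiv.Perm (Fin 3), ∃ (i : Fin 3) (m : Fin 2), ∀ k,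
    actR^[i.val] (actS^[m.val] (dlt k)) = dlt (π k) := by decide +kernel

theorem act_perm : ∀ (i : Fin 3) (m : Fin 2), ∃ π : Equiv.Perm (Fin 3), ∀ k,
    actR^[i.val] (actS^[m.val] (dlt k)) = dlt (π k) := by decide +kernel

theorem sign_real : ∀ (π : Equiv.Perm (Fin 3)) (s : Fin 3 → ZMod 3), (∀ i, s i ≠ 0) →
    ∃ k : K8, ∀ i, act8 k (dlt i) = (s i).val • dlt (π i) := by decide +kernel

theorem shift_dlt : ∀ (t : ZMod 3) (i : Fin 3),
    toF (dlt i + t.val • zV) = CfsgLib.SNineThree.frame t i := by decide +kernel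

theorem smul_val : ∀ (c : ZMod 3) (f : Fin 3 → ZMod 3), ofF (c • f) = c.val • ofF f := by
  decide +kernel

namespace Ax

variable {G : Type u} [Group G] [Finite G] {K : Core G} (A : Ax K)

theorem v_nsmul (n : ℕ) (y : V3) : A.v (n • y) = A.v y ^ n := by
  induction n with
  | zero => rw [zero_nsmul, pow_zero, A.v_zero]
  | succ n ih => rw [succ_nsmul, A.v_add, ih, pow_succ]

theorem shift_e (t : ZMod 3) : (A.shift t).e = A.v (eV + t.val • zV) := by
  rw [A.v_add, A.v_nsmul, A.v_e, A.v_z]; rfl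

theorem shift_dlt' (t : ZMod 3) : ∀ i, (A.shift t).v (dlt i) = A.v (dlt i + t.val • zV) := by
  have hz : ∀ w : ZMod 3, actR (w.val • zV : V3) = w.val • zV := by decide +kernel
  have hR : ∀ x y : V3, actR (x + y) = actR x + actR y := fun _ _ => rfl
  have d0 : dlt 0 = eV := by decide +kernel
  have d1 : dlt 1 = (0, 1, 0) := by decide +kernel
  have d2 : dlt 2 = (0, 0, 1) := by decide +kernel
  intro i
  fin_cases i
  · show (A.shift t).v (dlt 0) = A.v (dlt 0 + _)
    rw [d0, v_e, shift_e]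
  · show (A.shift t).v (dlt 1) = A.v (dlt 1 + _)
    rw [d1, v_g, g, shift_e]
    show A.b * _ * A.b⁻¹ = _
    rw [A.conj_b, hR, hz]
    rfl
  · show (A.shift t).v (dlt 2) = A.v (dlt 2 + _)
    rw [d2, v_h, h, shift_e]
    show A.b⁻¹ * _ * A.b = _
    have e : A.v (eV + t.val • zV) = A.b * A.v ((0, 0, 1) + t.val • zV) * A.b⁻¹ := by
      rw [A.conj_b, hR, hz]; rfl
    rw [e]; group

theorem basis_sum (x : V3) :
    x = x.1.val • dlt 0 + x.2.1.val • dlt 1 + x.2.2.val • dlt 2 := by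
  revert x; decide +kernel

theorem ext_dlt {φ φ' : V3 → G} (h : ∀ u w, φ (u + w) = φ u * φ w)
    (h' : ∀ u w, φ' (u + w) = φ' u * φ' w) (hb : ∀ i, φ (dlt i) = φ' (dlt i)) (x : V3) :
    φ x = φ' x := by
  have hn : ∀ (ψ : V3 → G), (∀ u w, ψ (u + w) = ψ u * ψ w) → ∀ (n : ℕ) y, ψ (n • y) = ψ y ^ n := by
    intro ψ hψ n y
    induction n with
    | zero =>
      have := hψ 0 0
      rw [add_zero] at this
      rw [zero_nsmul, pow_zero]
      exact left_eq_mul.1 this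
    | succ n ih => rw [succ_nsmul, hψ, ih, pow_succ]
  rw [basis_sum x, h, h, h', h', hn φ h, hn φ h, hn φ h, hn φ' h', hn φ' h', hn φ' h', hb, hb, hb]

theorem conj_pow_v (i : ℕ) (x : V3) : A.b ^ i * A.v x * (A.b ^ i)⁻¹ = A.v (actR^[i] x) := by
  induction i with
  | zero => simp
  | succ i ih =>
    rw [Function.iterate_succ_apply', ← A.conj_b, ← ih, pow_succ']
    group

theorem conj_pow_s (m : ℕ) (x : V3) : A.s ^ m * A.v x * (A.s ^ m)⁻¹ = A.v (actS^[m] x) := by
  induction m with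
  | zero => simp
  | succ m ih =>
    rw [Function.iterate_succ_apply', ← A.conj_s, ← ih, pow_succ']
    group

/-- The normalizer of `J` is monomial after a shift. -/
theorem exists_mono : ∃ t : ZMod 3, ∀ n ∈ normalizer (K.J : Set G), ∃ k : K8,
    ∀ x, n * (A.shift t).v x * n⁻¹ = (A.shift t).v (act8 k x) := by
  obtain ⟨X, hX⟩ : ∃ X : Set M3, ∀ M, M ∈ X ↔ ∃ n ∈ normalizer (K.J : Set G),
      ∀ x, n * A.v x * n⁻¹ = A.v (ofF (M *ᵥ toF x)) := ⟨{M | _}, fun _ => Iff.rfl⟩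
  have hadd : ∀ n : G, ∀ u w, n * A.v (u + w) * n⁻¹ = n * A.v u * n⁻¹ * (n * A.v w * n⁻¹) :=
    fun n u w => by rw [A.v_add]; group
  have hMadd : ∀ (M : M3) u w, A.v (ofF (M *ᵥ toF (u + w))) =
      A.v (ofF (M *ᵥ toF u)) * A.v (ofF (M *ᵥ toF w)) := fun M u w => by
    rw [toF_add, Matrix.mulVec_add, ofF_add, A.v_add]
  have hcol : ∀ (M : M3) i, M *ᵥ toF (dlt i) = M.col i := fun M i => by
    rw [dlt, toF_ofF, Matrix.mulVec_single_one]
  have hex : ∀ n ∈ normalizer (K.J : Set G), ∃ M : M3,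
      ∀ x, n * A.v x * n⁻¹ = A.v (ofF (M *ᵥ toF x)) := by
    intro n hn
    have hm : ∀ x, ∃ y, n * A.v x * n⁻¹ = A.v y := fun x => by
      obtain ⟨y, hy⟩ := (A.mem_J _).1 ((mem_normalizer_iff.1 hn _).1 (A.v_mem x))
      exact ⟨y, hy.symm⟩
    choose m hm using hm
    refine ⟨Matrix.of fun k i => toF (m (dlt i)) k, ext_dlt (hadd n) (hMadd _) fun i => ?_⟩
    rw [hm, hcol]
    congr 1
  have hmul : ∀ a ∈ X, ∀ c ∈ X, a * c ∈ X := by
    intro a ha c hc
    obtain ⟨n, hn, na⟩ := (hX a).1 ha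
    obtain ⟨m, hm, mc⟩ := (hX c).1 hc
    refine (hX _).2 ⟨n * m, mul_mem hn hm, fun x => ?_⟩
    rw [← Matrix.mulVec_mulVec, show c *ᵥ toF x = toF (ofF (c *ᵥ toF x)) from (toF_ofF _).symm,
      ← na, ← mc]
    group
  have hperm : ∀ M : M3, CfsgLib.SNineThree.IsPermMat M → M ∈ X := by
    rintro M ⟨π, hπ⟩
    obtain ⟨i, m, him⟩ := perm_real π
    have hact : ∀ x, A.b ^ i.val * A.s ^ m.val * A.v x * (A.b ^ i.val * A.s ^ m.val)⁻¹ =
        A.v (actR^[i.val] (actS^[m.val] x)) := fun x => by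
      rw [← A.conj_pow_v, ← A.conj_pow_s]; group
    refine (hX _).2 ⟨A.b ^ i.val * A.s ^ m.val, mul_mem (pow_mem A.b_norm _) (pow_mem A.s_norm _),
      ext_dlt (hadd _) (hMadd _) fun k => ?_⟩
    rw [hact, him]
    congr 1
    have h1 : ∀ k, CfsgLib.SNineThree.frame 0 k = Pi.single k 1 := fun k => by
      funext l; simp [CfsgLib.SNineThree.frame, Pi.single_apply]
    have := hπ k
    rw [h1, h1] at this
    show dlt (π k) = ofF (M *ᵥ toF (dlt k))
    rw [dlt, dlt, toF_ofF, this]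
  have hdet : ∀ M ∈ X, M.det ≠ 0 := by
    intro M hM h0
    obtain ⟨n, hn, nM⟩ := (hX M).1 hM
    obtain ⟨N, hN⟩ := hex n⁻¹ (inv_mem hn)
    have h1 : ∀ x, M *ᵥ (N *ᵥ toF x) = toF x := fun x => by
      have e : A.v (ofF (M *ᵥ toF (ofF (N *ᵥ toF x)))) = A.v x := by rw [← nM, ← hN]; group
      have e' := congrArg toF (A.v_inj e)
      rwa [toF_ofF, toF_ofF] at e'
    have h2 : M * N = 1 := Matrix.ext_of_mulVec_single fun i => by
      have := h1 (dlt i)
      rw [dlt, toF_ofF] at this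
      rw [← Matrix.mulVec_mulVec, this, Matrix.one_mulVec]
    have h3 := congrArg Matrix.det h2
    rw [Matrix.det_mul, h0, zero_mul, Matrix.det_one] at h3
    exact zero_ne_one h3
  have hfix : ∀ M ∈ X, M *ᵥ (fun _ => 1) = (fun _ => 1) → CfsgLib.SNineThree.IsPermMat M := by
    intro M hM hM1
    obtain ⟨n, hn, nM⟩ := (hX M).1 hM
    have hna : n * K.a = K.a * n := by
      have h1 := nM zV
      rw [show toF zV = fun _ => (1 : ZMod 3) by decide +kernel, hM1,
        show ofF (fun _ => (1 : ZMod 3)) = zV from rfl, A.v_z] at h1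
      exact mul_inv_eq_iff_eq_mul.1 h1
    obtain ⟨c, i, m, rfl⟩ := A.norm_form n hna fun j hj => (mem_normalizer_iff.1 hn j).1 hj
    obtain ⟨π, hπ⟩ := act_perm i m
    refine ⟨π, fun k => ?_⟩
    have h2 := nM (dlt k)
    have e : A.v c * A.b ^ i.val * A.s ^ m.val * A.v (dlt k) * (A.v c * A.b ^ i.val * A.s ^ m.val)⁻¹ =
        A.v (dlt (π k)) := by
      rw [← hπ, show A.v c * A.b ^ i.val * A.s ^ m.val * A.v (dlt k) *
        (A.v c * A.b ^ i.val * A.s ^ m.val)⁻¹ = A.v c * (A.b ^ i.val * (A.s ^ m.val * A.v (dlt k) *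
        (A.s ^ m.val)⁻¹) * (A.b ^ i.val)⁻¹) * (A.v c)⁻¹ by group, A.conj_pow_s, A.conj_pow_v,
        A.v_comm, mul_inv_cancel_right]
    have h3 := congrArg toF (A.v_inj (e.symm.trans h2))
    rw [toF_ofF, dlt, dlt, toF_ofF, toF_ofF] at h3
    have h1 : ∀ k, CfsgLib.SNineThree.frame 0 k = Pi.single k 1 := fun k => by
      funext l; simp [CfsgLib.SNineThree.frame, Pi.single_apply]
    rw [h1, h1, ← h3]
  obtain ⟨t, ht⟩ := CfsgLib.SNineThree.classify X hmul hperm hdet hfix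
  refine ⟨t, fun n hn => ?_⟩
  obtain ⟨M, hM⟩ := hex n hn
  obtain ⟨π, s, hs, hπ⟩ := ht M ((hX M).2 ⟨n, hn, hM⟩)
  obtain ⟨k, hk⟩ := sign_real π s hs
  refine ⟨k, ext_dlt (fun u w => ?_) (fun u w => ?_) fun i => ?_⟩
  · rw [(A.shift t).v_add]; group
  · rw [act8_add, (A.shift t).v_add]
  · rw [A.shift_dlt', hk, (A.shift t).v_nsmul, A.shift_dlt', hM, shift_dlt, hπ, smul_val,
      ← A.v_nsmul, ← shift_dlt, ofF_toF]

end Ax

end CfsgLib.SpSixThree.Setup
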